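import Cfsg.Agent.Lib.Char.InducedEq
import Cfsg.Agent.Lib.Char.Descend
import Cfsg.Agent.Lib.Char.CliffordCorrespondence
import Cfsg.Agent.Lib.Char.Twist
import Cfsg.Agent.Lib.Clifford.Extension

/-!
# Characters over an invariant character through a covering group

`π : E → G` is onto, `σ` is a representation of `E` that is irreducible on the normal subgroup `M`,
`π` is injective on `M` and the kernel of `π` is faithfully represented by scalars.  Then
`β ↦ σ.character * β` is an isometric bijection from the irreducible characters of `E / M` that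
are genuine (inverse to `σ` on the kernel) onto the irreducible characters of `G` over `σ|M`.
-/

set_option autoImplicit false
set_option linter.style.haveILetI false
set_option linter.unusedSectionVars false

namespace Cfsg.Agent.IsaacsCorr

open Cfsg Cfsg.Agent.Char Representation
open scoped ComplexConjugate

universe u

/-- Inner products do not change under surjective homomorphisms. -/
theorem classInner_comp_surjective {E G : Type*} [Group E] [Fintype E] [Group G] [Fintype G]
    (f : E →* G) (hf : Function.Surjective f) (a b : G → ℂ) :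
    classInner (fun e => a (f e)) (fun e => b (f e)) = classInner a b := by
  classical
  have hfib : ∀ g : G, (Finset.univ.filter fun e => f e = g).card = Nat.card f.ker := fun g => by
    obtain ⟨e₀, rfl⟩ := hf g
    rw [Nat.card_eq_fintype_card, ← Finset.card_univ]
    symm
    refine Finset.card_bij (fun z _ => e₀ * (z : E)) ?_ ?_ ?_
    · intro z _
      simp [MonoidHom.mem_ker.1 z.2]
    · intro z _ w _ h
      exact Subtype.ext (mul_left_cancel h)
    · intro e he
      refine ⟨⟨e₀⁻¹ * e, ?_⟩, Finset.mem_univ _, by simp⟩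
      simp [MonoidHom.mem_ker, (Finset.mem_filter.1 he).2]
  have hsum : ∑ e, a (f e) * conj (b (f e)) = (Nat.card f.ker : ℂ) * ∑ g, a g * conj (b g) := by
    rw [← Finset.sum_fiberwise Finset.univ f, Finset.mul_sum]
    refine Finset.sum_congr rfl fun g _ => ?_
    rw [Finset.sum_congr rfl fun e he => by rw [(Finset.mem_filter.1 he).2], Finset.sum_const,
      hfib g, nsmul_eq_mul]
  have hcard : (Nat.card E : ℂ) = (Nat.card f.ker : ℂ) * Nat.card G := by
    rw [← Nat.cast_mul, ← f.ker.card_mul_index, Subgroup.index_ker,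
      MonoidHom.range_eq_top.2 hf, Subgroup.card_top]
  simp only [classInner, hsum, hcard, mul_inv]
  have : (Nat.card f.ker : ℂ) ≠ 0 := Char.card_ne_zero
  field_simp

/-- A representation trivial on the kernel descends along a surjection. -/
theorem exists_descendHom {E G : Type*} [Group E] [Group G] {n : ℕ} (f : E →* G)
    (hf : Function.Surjective f) (ρ' : E →* Module.End ℂ (Fin n → ℂ)) (h : ∀ z, f z = 1 → ρ' z = 1) :
    ∃ τ : G →* Module.End ℂ (Fin n → ℂ), ∀ e, τ (f e) = ρ' e := by
  refine ⟨{ toFun := fun g => ρ' (Function.surjInv hf g), map_one' := h _ (Function.surjInv_eq hf 1), map_mul' := fun a b => ?_ }, fun e => ?_⟩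
  · have := h (Function.surjInv hf (a*b) * (Function.surjInv hf a * Function.surjInv hf b)⁻¹) (by simp [Function.surjInv_eq hf])
    rw [← map_mul ρ']
    conv_lhs => rw [← mul_one (Function.surjInv hf (a*b)), ← inv_mul_cancel (Function.surjInv hf a * Function.surjInv hf b), ← mul_assoc, map_mul, this, one_mul]
  · show ρ' (Function.surjInv hf (f e)) = ρ' e
    have := h (Function.surjInv hf (f e) * e⁻¹) (by simp [Function.surjInv_eq hf])
    calc ρ' (Function.surjInv hf (f e)) = ρ' (Function.surjInv hf (f e) * e⁻¹ * e) := by simp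
      _ = ρ' e := by rw [map_mul, this, one_mul]

/-- A function whose inflation is a character is a character. -/
theorem isCharacter_of_comp_surjective {E G : Type*} [Group E] [Finite E] [Group G] (f : E →* G)
    (hf : Function.Surjective f) {a : G → ℂ} (h : IsCharacter E (fun e => a (f e))) :
    IsCharacter G a := by
  obtain ⟨n, ρ, hρ⟩ := h
  have hρc : IsCharacter E ρ.character := ⟨n, ρ, rfl⟩
  obtain ⟨τ, hτ⟩ := exists_descendHom f hf ρ fun z hz => by
    have h1 : z ∈ CharInt.charKernel hρc := by
      refine (CharInt.mem_charKernel hρc).2 ?_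
      rw [congrFun hρ z, congrFun hρ 1]
      simp only [hz, map_one]
    rw [CharInt.charKernel_eq_ker] at h1
    exact MonoidHom.mem_ker.1 h1
  refine ⟨n, τ, funext fun g => ?_⟩
  obtain ⟨e, rfl⟩ := hf g
  rw [← congrFun hρ e]
  exact congrArg (LinearMap.trace ℂ (Fin n → ℂ)) (hτ e)

variable {E G : Type u} [Group E] [Group G] {d : ℕ}

/-- The data of a covering. -/
structure IsCover (π : E →* G) (σ : Representation ℂ E (Fin d → ℂ)) (M : Subgroup E) : Prop where
  surj : Function.Surjective π
  inj : ∀ m ∈ M, π m = 1 → m = 1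
  irr : Representation.IsIrreducible (MonoidHom.comp σ M.subtype)
  faithful : ∀ z, π z = 1 → σ z = 1 → z = 1

variable {π : E →* G} {σ : Representation ℂ E (Fin d → ℂ)} {M : Subgroup E} [hMn : M.Normal]

/-- `β` is inverse to `σ` on the kernel of `π`. -/
def Genuine (π : E →* G) (σ : Representation ℂ E (Fin d → ℂ)) (M : Subgroup E) [M.Normal]
    (β : E ⧸ M → ℂ) : Prop :=
  ∀ z, π z = 1 → ∀ c : ℂ, σ z = c • 1 → ∀ y, c * β ((z : E ⧸ M) * y) = β y

namespace IsCover

variable (hc : IsCover π σ M)
include hc

theorem d_ne_zero : (d : ℂ) ≠ 0 := by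
  haveI := hc.irr
  haveI : Nontrivial (Fin d → ℂ) := nontrivial_of_isIrreducible (MonoidHom.comp σ M.subtype)
  rw [Nat.cast_ne_zero]
  rintro rfl
  exact not_subsingleton (Fin 0 → ℂ) inferInstance

theorem character_one : σ.character 1 = d := by simp

theorem exists_scalar {z : E} (hz : π z = 1) : ∃ c : ℂ, c ≠ 0 ∧ σ z = c • 1 := by
  haveI := hc.irr
  have hcomm : ∀ m : M, σ z * (MonoidHom.comp σ M.subtype) m =
      (MonoidHom.comp σ M.subtype) m * σ z := by
    intro m
    have h1 : z * (m : E) * z⁻¹ * (m : E)⁻¹ = 1 := by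
      refine hc.inj _ (M.mul_mem (hMn.conj_mem _ m.2 z) (M.inv_mem m.2)) ?_
      simp [hz]
    have h2 : z * (m : E) = (m : E) * z := by
      rw [mul_inv_eq_one, mul_inv_eq_iff_eq_mul] at h1
      exact h1
    show σ z * σ (m : E) = σ (m : E) * σ z
    rw [← map_mul, h2, map_mul]
  obtain ⟨c, hcz⟩ := Clifford.exists_scalar_of_commute (MonoidHom.comp σ M.subtype) (σ z) hcomm
  rw [Algebra.algebraMap_eq_smul_one] at hcz
  refine ⟨c, fun h0 => ?_, hcz⟩
  have h1 : σ z * σ z⁻¹ = 1 := by rw [← map_mul, mul_inv_cancel, map_one]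
  rw [hcz, h0, zero_smul, zero_mul] at h1
  haveI : Nontrivial (Fin d → ℂ) := nontrivial_of_isIrreducible (MonoidHom.comp σ M.subtype)
  exact zero_ne_one h1

theorem kernel_central {z : E} (hz : π z = 1) (e : E) : e * z = z * e := by
  obtain ⟨c, -, hcz⟩ := hc.exists_scalar hz
  have h := hc.faithful (e * z * e⁻¹ * z⁻¹) (by simp [hz]) (by
    rw [map_mul, map_mul, map_mul]
    conv_lhs => rw [hcz]
    rw [mul_smul_comm, mul_one, smul_mul_assoc, ← map_mul, mul_inv_cancel, map_one, ← hcz,
      ← map_mul, mul_inv_cancel, map_one])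
  rw [mul_inv_eq_one, mul_inv_eq_iff_eq_mul] at h
  exact h

theorem character_scalar_mul {z : E} {c : ℂ} (h : σ z = c • 1) (e : E) :
    σ.character (z * e) = c * σ.character e := by
  simp [Representation.character, map_mul, h]

theorem conj_scalar {z : E} {c : ℂ} (hc' : c ≠ 0) (h : σ z = c • 1) [Fintype E] :
    conj c = c⁻¹ := by
  have h1 : σ z⁻¹ = c⁻¹ • (1 : Module.End ℂ (Fin d → ℂ)) := by
    have h2 : σ z * σ z⁻¹ = 1 := by rw [← map_mul, mul_inv_cancel, map_one]
    rw [h, smul_mul_assoc, one_mul] at h2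
    rw [← h2, smul_smul, inv_mul_cancel₀ hc', one_smul]
  have h3 := Char.conj_character σ z
  simp only [Representation.character, h, h1, map_smul, LinearMap.trace_one, smul_eq_mul, map_mul,
    Module.finrank_fin_fun, Complex.conj_natCast] at h3
  exact mul_right_cancel₀ hc.d_ne_zero h3

/-- The norm of the character of `σ` on a coset of `M`. -/
theorem sum_coset [Fintype E] [Fintype M] (e : E) :
    ∑ m : M, σ.character (e * m) * conj (σ.character (e * m)) = (Nat.card M : ℂ) := by
  haveI := hc.irr
  have h := sum_trace_mul_trace (MonoidHom.comp σ M.subtype) (σ e) (σ e⁻¹)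
  rw [← map_mul σ, mul_inv_cancel, map_one, LinearMap.trace_one, Module.finrank_fin_fun,
    mul_comm (Nat.card M : ℂ)] at h
  refine Eq.trans ?_ (mul_left_cancel₀ hc.d_ne_zero h)
  refine Finset.sum_congr rfl fun m _ => ?_
  rw [Char.conj_character]
  show LinearMap.trace ℂ _ (σ (e * m)) * LinearMap.trace ℂ _ (σ (e * m)⁻¹) =
    LinearMap.trace ℂ _ (σ e * σ m) * LinearMap.trace ℂ _ (σ (m⁻¹ : M) * σ e⁻¹)
  rw [mul_inv_rev, map_mul σ, map_mul σ, Subgroup.coe_inv]

/-- The function on `G` given by a function on `E / M`. -/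
noncomputable def lift (β : E ⧸ M → ℂ) : G → ℂ := fun g =>
  σ.character (Function.surjInv hc.surj g) *
    β (QuotientGroup.mk (Function.surjInv hc.surj g))

theorem lift_apply {β : E ⧸ M → ℂ} (hβ : Genuine π σ M β) (e : E) :
    hc.lift β (π e) = σ.character e * β (e : E ⧸ M) := by
  set e' := Function.surjInv hc.surj (π e)
  have he' : π e' = π e := Function.surjInv_eq hc.surj (π e)
  obtain ⟨z, hz, hze⟩ : ∃ z, π z = 1 ∧ e' = z * e :=
    ⟨e' * e⁻¹, by simp [he'], by simp⟩
  obtain ⟨c, -, hcz⟩ := hc.exists_scalar hz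
  show σ.character e' * β (e' : E ⧸ M) = _
  rw [hze, hc.character_scalar_mul hcz, QuotientGroup.mk_mul, mul_comm c, mul_assoc,
    hβ z hz c hcz]

theorem lift_one {β : E ⧸ M → ℂ} (hβ : Genuine π σ M β) : hc.lift β 1 = d * β 1 := by
  have h := hc.lift_apply hβ 1
  rw [map_one, QuotientGroup.mk_one, hc.character_one] at h
  exact h

variable [Fintype E] [Fintype G] [Fintype M] [Fintype (E ⧸ M)]

theorem classInner_lift {β β' : E ⧸ M → ℂ} (hβ : Genuine π σ M β) (hβ' : Genuine π σ M β') :
    classInner (hc.lift β) (hc.lift β') = classInner β β' := by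
  classical
  refine ((classInner_comp_surjective π hc.surj (hc.lift β) (hc.lift β')).symm.trans ?_).trans
    (classInner_comp_surjective (QuotientGroup.mk' M) (QuotientGroup.mk'_surjective M) β β')
  simp only [classInner, hc.lift_apply hβ, hc.lift_apply hβ', map_mul, QuotientGroup.mk'_apply]
  congr 1
  set h : E → ℂ := fun e => β (e : E ⧸ M) * conj (β' (e : E ⧸ M)) with hh
  have hhm : ∀ e, ∀ m : M, h (e * m) = h e := fun e m => by
    simp [hh]
  set F : E → ℂ := fun e => σ.character e * conj (σ.character e) * h e with hF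
  have e1 : ∀ m : M, ∑ e, F (e * m) = ∑ e, F e := fun m =>
    Fintype.sum_equiv (Equiv.mulRight (m : E)) _ _ fun e => rfl
  have e2 : (Nat.card M : ℂ) * ∑ e, F e = (Nat.card M : ℂ) * ∑ e, h e := by
    calc (Nat.card M : ℂ) * ∑ e, F e = ∑ m : M, ∑ e, F (e * m) := by
          rw [Finset.sum_congr rfl fun m _ => e1 m, Finset.sum_const, Finset.card_univ,
            nsmul_eq_mul, Nat.card_eq_fintype_card]
      _ = ∑ e, ∑ m : M, F (e * m) := Finset.sum_comm
      _ = ∑ e, (Nat.card M : ℂ) * h e := Finset.sum_congr rfl fun e _ => by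
          simp only [hF, hhm e, ← Finset.sum_mul, hc.sum_coset e]
      _ = _ := (Finset.mul_sum _ _ _).symm
  refine Eq.trans ?_ ((mul_left_cancel₀ Char.card_ne_zero e2).trans ?_)
  · exact Finset.sum_congr rfl fun e _ => by simp only [hF, hh]; ring
  · rfl

theorem isCharacter_lift {β : E ⧸ M → ℂ} (hβc : IsCharacter (E ⧸ M) β) (hβ : Genuine π σ M β) :
    IsCharacter G (hc.lift β) := by
  refine isCharacter_of_comp_surjective π hc.surj ?_
  simp only [hc.lift_apply hβ]
  exact IsCharacter.mul ⟨d, σ, rfl⟩ (IsCharacter.comp hβc (QuotientGroup.mk' M))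

theorem isIrrCharacter_lift (β : IrrCharacter (E ⧸ M)) (hβ : Genuine π σ M β.1) :
    IsIrrCharacter G (hc.lift β.1) :=
  isIrrCharacter_iff.2 ⟨hc.isCharacter_lift (irr_isCharacter β) hβ, by
    rw [hc.classInner_lift hβ hβ, classInner_irr_self β.2]⟩

/-- The character of `G` belonging to a genuine character of `E / M`. -/
noncomputable def liftIrr (β : IrrCharacter (E ⧸ M)) (hβ : Genuine π σ M β.1) : IrrCharacter G :=
  ⟨hc.lift β.1, hc.isIrrCharacter_lift β hβ⟩

theorem lift_injective {β β' : IrrCharacter (E ⧸ M)} (hβ : Genuine π σ M β.1)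
    (hβ' : Genuine π σ M β'.1) (h : hc.lift β.1 = hc.lift β'.1) : β = β' := by
  by_contra hne
  have h1 := hc.classInner_lift hβ hβ'
  rw [h, hc.classInner_lift hβ' hβ', classInner_irr_self β'.2,
    classInner_eq_zero_of_ne hne] at h1
  exact one_ne_zero h1

/-- The character of `M`. -/
theorem isIrr_sigma : IsIrrCharacter M (fun m => σ.character (m : E)) :=
  ⟨d, MonoidHom.comp σ M.subtype, hc.irr, rfl⟩

theorem classInner_lift_M {β : E ⧸ M → ℂ} (hβ : Genuine π σ M β) :
    classInner (fun m : M => hc.lift β (π m)) (fun m : M => σ.character (m : E)) = β 1 := by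
  have : (fun m : M => hc.lift β (π m)) = β 1 • fun m : M => σ.character (m : E) := by
    funext m
    rw [hc.lift_apply hβ, (QuotientGroup.eq_one_iff (m : E)).2 m.2, Pi.smul_apply, smul_eq_mul,
      mul_comm]
  rw [this, classInner_smul_left, classInner_irr_self hc.isIrr_sigma, mul_one]

/-- Every irreducible character over `σ|M` is a lift. -/
theorem exists_lift (χ : IrrCharacter G)
    (hχ : classInner (fun m : M => χ.1 (π m)) (fun m : M => σ.character (m : E)) ≠ 0) :
    ∃ (β : IrrCharacter (E ⧸ M)) (hβ : Genuine π σ M β.1), hc.liftIrr β hβ = χ := by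
  classical
  let φM : IrrCharacter M := ⟨_, hc.isIrr_sigma⟩
  let χE : IrrCharacter E :=
    ⟨fun e => χ.1 (π e), IsIrrCharacter.comp_surjective χ.2 π hc.surj⟩
  have hσ : IsCharacter E σ.character := ⟨d, σ, rfl⟩
  have hinv : ∀ g, conjFun M φM.1 g = φM.1 := fun g => funext fun m => by
    show σ.character ((MulAut.conjNormal g m : M) : E) = σ.character (m : E)
    rw [MulAut.conjNormal_apply]
    exact IsCharacter.isClassFunction hσ _ _
  have hres := resFun_eq_smul_of_invariant M χE φM hinv hχ
  set e₀ := classInner (fun m : M => χ.1 (π m)) (fun m : M => σ.character (m : E)) with he₀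
  have hΦ : IsCharacter E (fun e => χ.1 (π e) * conj (σ.character e)) :=
    IsCharacter.mul (irr_isCharacter χE) (IsCharacter.conj hσ)
  obtain ⟨n, hn, -⟩ := IsCharacter.exists_decomp hΦ
  let δ : IrrCharacter E → (E ⧸ M → ℂ) := fun η =>
    if h : TrivOn M η.1 then ((exists_descend M η h).choose).1 else 0
  have hδ : ∀ η (e : E), ∑ m : M, η.1 (e * m) = (Nat.card M : ℂ) * δ η (e : E ⧸ M) := by
    intro η e
    simp only [δ]
    split_ifs with h
    · rw [(exists_descend M η h).choose_spec e]
      rw [Finset.sum_congr rfl fun m _ => apply_mul_of_trivOn h e m.2, Finset.sum_const,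
        Finset.card_univ, nsmul_eq_mul, Nat.card_eq_fintype_card]
    · rw [sum_coset_eq_zero_of_not_trivOn M η h e, Pi.zero_apply, mul_zero]
  set β : E ⧸ M → ℂ := ∑ η : IrrCharacter E, (n η : ℂ) • δ η with hβdef
  have hβc : IsCharacter (E ⧸ M) β := IsCharacter.sum _ fun η _ =>
    IsCharacter.natCast_smul (by
      simp only [δ]
      split_ifs with h
      · exact irr_isCharacter _
      · exact IsCharacter.zero) _
  have hβe : ∀ e : E, (Nat.card M : ℂ) * β (e : E ⧸ M) =
      ∑ m : M, χ.1 (π (e * m)) * conj (σ.character (e * m)) := by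
    intro e
    have h1 : ∀ m : M, χ.1 (π (e * m)) * conj (σ.character (e * m)) =
        ∑ η : IrrCharacter E, (n η : ℂ) * η.1 (e * m) := fun m => by
      have := congrFun hn (e * m)
      simpa using this
    rw [Finset.sum_congr rfl fun m _ => h1 m, Finset.sum_comm, hβdef, Finset.sum_apply,
      Finset.mul_sum]
    refine Finset.sum_congr rfl fun η _ => ?_
    rw [← Finset.mul_sum, hδ, Pi.smul_apply, smul_eq_mul]
    ring
  have hgen : Genuine π σ M β := by
    intro z hz c hcz y
    obtain ⟨e, rfl⟩ := QuotientGroup.mk_surjective y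
    have hc0 : c ≠ 0 := by
      obtain ⟨c', hc', hcz'⟩ := hc.exists_scalar hz
      rintro rfl
      rw [hcz', zero_smul, smul_eq_zero] at hcz
      refine hcz.elim hc' fun h1 => hc.d_ne_zero ?_
      have := congrArg (LinearMap.trace ℂ (Fin d → ℂ)) h1
      simpa using this
    refine mul_left_cancel₀ (Char.card_ne_zero (G := M)) ?_
    rw [← QuotientGroup.mk_mul, mul_left_comm, hβe, hβe, Finset.mul_sum]
    refine Finset.sum_congr rfl fun m _ => ?_
    rw [mul_assoc z, map_mul π z, hz, one_mul, hc.character_scalar_mul hcz,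
      map_mul (starRingEnd ℂ), hc.conj_scalar hc0 hcz]
    field_simp
  have hone : β 1 = e₀ := by
    refine mul_left_cancel₀ (Char.card_ne_zero (G := M)) ?_
    have := hβe 1
    simp only [QuotientGroup.mk_one, one_mul] at this
    rw [this, he₀, classInner, ← mul_assoc, mul_inv_cancel₀ Char.card_ne_zero, one_mul]
  have hL : IsCharacter G (hc.lift β) := hc.isCharacter_lift hβc hgen
  have hdeg : hc.lift β 1 = χ.1 1 := by
    rw [hc.lift_one hgen, hone]
    have := congrFun hres 1
    simp only [resFun_apply, Subgroup.coe_one, Pi.smul_apply, smul_eq_mul, φM, χE, map_one,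
      hc.character_one] at this
    rw [this, mul_comm]
    rfl
  have hin : classInner χ.1 (hc.lift β) = classInner β β := by
    refine ((classInner_comp_surjective π hc.surj χ.1 (hc.lift β)).symm.trans ?_).trans
      (classInner_comp_surjective (QuotientGroup.mk' M) (QuotientGroup.mk'_surjective M) β β)
    simp only [classInner, hc.lift_apply hgen, map_mul, QuotientGroup.mk'_apply]
    congr 1
    refine mul_left_cancel₀ (Char.card_ne_zero (G := M)) ?_
    set F : E → ℂ := fun e => χ.1 (π e) * conj (σ.character e) * conj (β (e : E ⧸ M)) with hF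
    calc (Nat.card M : ℂ) *
          ∑ e, χ.1 (π e) * (conj (σ.character e) * conj (β (e : E ⧸ M)))
        = ∑ m : M, ∑ e, F (e * m) := by
          rw [Finset.sum_congr rfl fun m _ =>
              Fintype.sum_equiv (Equiv.mulRight ((m : M) : E)) (fun e => F (e * m)) F fun e => rfl,
            Finset.sum_const, Finset.card_univ, nsmul_eq_mul, Nat.card_eq_fintype_card]
          exact congrArg _ (Finset.sum_congr rfl fun e _ => (mul_assoc _ _ _).symm)
      _ = ∑ e, ∑ m : M, F (e * m) := Finset.sum_comm
      _ = ∑ e : E, (Nat.card M : ℂ) * β (e : E ⧸ M) * conj (β (e : E ⧸ M)) :=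
          Finset.sum_congr rfl fun e _ => by
            rw [hβe, Finset.sum_mul]
            refine Finset.sum_congr rfl fun m _ => ?_
            simp only [hF, QuotientGroup.mk_mul, (QuotientGroup.eq_one_iff (m : E)).2 m.2, mul_one]
      _ = _ := by
          rw [Finset.mul_sum]
          exact Finset.sum_congr rfl fun e _ => mul_assoc _ _ _
  have hne : classInner β β ≠ 0 := fun h0 => hχ (by
    rw [← hone, classInner_self_eq_zero h0, Pi.zero_apply])
  have heq : hc.lift β = χ.1 := eq_of_constituent_degree hL χ (fun h0 => hne (by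
    rw [← hin, ← conj_classInner, h0, map_zero])) hdeg
  have hnorm : classInner β β = 1 := by
    rw [← hc.classInner_lift hgen hgen, heq, classInner_irr_self χ.2]
  exact ⟨⟨β, isIrrCharacter_iff.2 ⟨hβc, hnorm⟩⟩, hgen, Subtype.ext heq⟩

end IsCover

end Cfsg.Agent.IsaacsCorr
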