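import Cfsg.Agent.Lib.Coprime.Baer
import Cfsg.Agent.Lib.Glauberman.RelativeBase

/-!
# The averaging map and the involution of a fixed-point-free central extension

`Y = A B` with `A` normal, `A ∩ B` central and containing the commutators of `A`; coprime operators
fix `B` and act freely on `A / (A ∩ B)`.  The Baer average `n : A → A ∩ B` gives the automorphism
`τ (a b) = n(a)² a⁻¹ b`, an involution with fixed points `B`.  A fixed character of `A` is fixed
by `τ` and by `Y`.
-/

set_option autoImplicit false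
set_option linter.style.haveILetI false
set_option linter.unusedSectionVars false

namespace Cfsg.Agent.IsaacsCorr

open Cfsg Cfsg.Agent.Char Cfsg.Agent.Coprime
open Cfsg.Agent.RelGlauberman (restrictAut)
open Cfsg.Agent.Glauberman (IsFix)
open scoped commutatorElement

universe u v

variable {Y : Type u} [Group Y] {S : Type v} [Group S]

/-- The hypotheses on the central extension. -/
structure CoreData (φ : S →* MulAut Y) (A B : Subgroup Y) : Prop where
  cop : (Nat.card S).Coprime (Nat.card Y)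
  odd : Odd (Nat.card Y)
  gen : ∀ y, ∃ a ∈ A, ∃ b ∈ B, y = a * b
  central : ∀ z ∈ A, z ∈ B → ∀ y, y * z = z * y
  comm : ∀ a ∈ A, ∀ a' ∈ A, a * a' * a⁻¹ * a'⁻¹ ∈ B
  invA : ∀ s, ∀ a ∈ A, φ s a ∈ A
  fixB : ∀ s, ∀ b ∈ B, φ s b = b
  free : ∀ a ∈ A, (∀ s, φ s a * a⁻¹ ∈ B) → a ∈ B

/-- A commutator with an element acting as a scalar acts trivially. -/
theorem map_commutator_of_scalar {X : Type*} [Group X] {d : ℕ}
    (σ : Representation ℂ X (Fin d → ℂ)) (a x : X) {μ : ℂ}
    (h : σ a = μ • 1 ∨ σ x = μ • 1) : σ ⁅a, x⁆ = 1 := by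
  have h1 : σ (a * x) = σ (x * a) := by
    rcases h with h | h <;> simp only [map_mul, h, smul_mul_assoc, mul_smul_comm, one_mul, mul_one]
  rw [commutatorElement_def, show a * x * a⁻¹ * x⁻¹ = a * x * (x * a)⁻¹ by group, map_mul σ, h1,
    ← map_mul σ, mul_inv_cancel, map_one]

variable {φ : S →* MulAut Y} {A B : Subgroup Y} (hD : CoreData φ A B)
include hD

theorem CoreData.commutator_le_center : commutator A ≤ Subgroup.center A := by
  rw [commutator_def, Subgroup.commutator_le]
  intro a _ b _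
  rw [Subgroup.mem_center_iff]
  intro g
  have h1 : ((⁅a, b⁆ : A) : Y) ∈ B := by
    rw [commutatorElement_def]
    exact hD.comm a a.2 b b.2
  exact Subtype.ext (hD.central _ (⁅a, b⁆ : A).2 h1 g)

theorem CoreData.odd_A [Finite Y] : Odd (Nat.card A) :=
  hD.odd.of_dvd_nat (Subgroup.card_subgroup_dvd_card A)

/-- The properties of the average: values central and fixed, identity on `A ∩ B`, twisted
multiplicativity, invariance, and the identity for scalar elements. -/
theorem CoreData.exists_average [Finite S] [Finite Y] [A.Normal] :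
    ∃ n : A → A, (∀ a, (n a : Y) ∈ B) ∧ (∀ a : A, (a : Y) ∈ B → n a = a) ∧
      (∀ a b : A, n (a * b) = n a * n b * ⁅a, b⁆ ^ baerExp A) ∧
      (∀ s a, n (restrictAut φ A hD.invA s a) = n a) ∧
      (∀ b ∈ B, ∀ a, n (MulAut.conjNormal b a) = n a) ∧
      (∀ {d : ℕ} (σ : Representation ℂ A (Fin d → ℂ)) (a : A) (μ : ℂ), σ a = μ • 1 →
        (∀ s, σ (restrictAut φ A hD.invA s a) = μ • 1) →
        σ (n a) ^ Nat.card S = μ ^ Nat.card S • 1) := by
  classical
  haveI := Fintype.ofFinite S
  set hcl := hD.commutator_le_center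
  set hod := hD.odd_A
  let v : Baer A hcl hod ≃ A :=
    { toFun := Baer.val, invFun := fun a => ⟨a⟩, left_inv := fun a => rfl, right_inv := fun a => rfl }
  haveI : Finite (Baer A hcl hod) := Finite.of_equiv A v.symm
  have hcop : (Nat.card (Baer A hcl hod)).Coprime (Nat.card S) := by
    rw [Nat.card_congr v]
    exact (hD.cop.coprime_dvd_right (Subgroup.card_subgroup_dvd_card A)).symm
  let e : Baer A hcl hod ≃* Baer A hcl hod :=
    MulEquiv.ofBijective (powMonoidHom (Nat.card S)) (powCoprime hcop).bijective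
  let bm : S → (Baer A hcl hod →* Baer A hcl hod) := fun s =>
    baerMap (restrictAut φ A hD.invA s).toMonoidHom
  have hbm : ∀ s t a, bm s (bm t a) = bm (s * t) a := fun s t a =>
    congrArg Baer.mk (by simp [baerMap_val, bm, map_mul, MulAut.mul_apply])
  let P : Baer A hcl hod →* Baer A hcl hod := ∏ s : S, bm s
  have hP : ∀ a, P a = ∏ s : S, bm s a := fun a => MonoidHom.finsetProd_apply bm Finset.univ a
  let n₀ : Baer A hcl hod →* Baer A hcl hod := e.symm.toMonoidHom.comp P
  have hn₀ : ∀ a, (n₀ a) ^ Nat.card S = P a := fun a => e.apply_symm_apply (P a)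
  have hinj : ∀ a b : Baer A hcl hod, a ^ Nat.card S = b ^ Nat.card S → a = b := fun a b h =>
    e.injective h
  have hPs : ∀ s a, bm s (P a) = P a := fun s a => by
    rw [hP, map_prod]
    exact Fintype.prod_equiv (Equiv.mulLeft s) _ _ fun t => hbm s t a
  have hPt : ∀ s a, P (bm s a) = P a := fun s a => by
    rw [hP, hP]
    exact Fintype.prod_equiv (Equiv.mulRight s) _ _ fun t => hbm t s a
  have hfixn : ∀ s a, bm s (n₀ a) = n₀ a := fun s a => hinj _ _ (by rw [← map_pow, hn₀, hPs])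
  have hval : ∀ a, ((n₀ a).val : Y) ∈ B := by
    intro a
    refine hD.free _ (n₀ a).val.2 fun s => ?_
    have h : restrictAut φ A hD.invA s (n₀ a).val = (n₀ a).val := congrArg Baer.val (hfixn s a)
    have h' := congrArg Subtype.val h
    rw [RelGlauberman.coe_restrictAut] at h'
    rw [h', mul_inv_cancel]
    exact B.one_mem
  have hid : ∀ a : Baer A hcl hod, (a.val : Y) ∈ B → n₀ a = a := by
    intro a ha
    refine hinj _ _ ?_
    have hb : ∀ s, bm s a = a := fun s => congrArg Baer.mk (Subtype.ext (hD.fixB s _ ha))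
    rw [hn₀, hP, Finset.prod_congr rfl fun s _ => hb s, Finset.prod_const, Finset.card_univ,
      Nat.card_eq_fintype_card]
  have hcentral : ∀ (z : A), (z : Y) ∈ B → ∀ x : A, ⁅z, x⁆ = 1 ∧ ⁅x, z⁆ = 1 := fun z hz x =>
    ⟨commutatorElement_eq_one_iff_mul_comm.2 (Subtype.ext (hD.central z z.2 hz x).symm),
      commutatorElement_eq_one_iff_mul_comm.2 (Subtype.ext (hD.central z z.2 hz x))⟩
  have hmulz : ∀ u w : Baer A hcl hod, (w.val : Y) ∈ B → (u * w).val = u.val * w.val := by
    intro u w hw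
    rw [baer_val_mul, (hcentral _ hw _).1, one_pow, mul_one]
  have hcommB : ∀ a b : A, ((⁅a, b⁆ ^ baerExp A : A) : Y) ∈ B := fun a b => by
    rw [Subgroup.coe_pow]
    refine B.pow_mem ?_ _
    rw [commutatorElement_def]
    exact hD.comm a a.2 b b.2
  refine ⟨fun a => (n₀ ⟨a⟩).val, fun a => hval _, fun a ha => ?_, fun a b => ?_, fun s a => ?_,
    fun b hb a => ?_, ?_⟩
  · show (n₀ ⟨a⟩).val = a
    rw [hid ⟨a⟩ ha]
  · show (n₀ ⟨a * b⟩).val = (n₀ ⟨a⟩).val * (n₀ ⟨b⟩).val * ⁅a, b⁆ ^ baerExp A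
    have e1 : (⟨a * b⟩ : Baer A hcl hod) = ⟨a⟩ * ⟨b⟩ * ⟨⁅a, b⁆ ^ baerExp A⟩ := by
      refine v.injective ?_
      show a * b = ((⟨a⟩ : Baer A hcl hod) * ⟨b⟩ * ⟨⁅a, b⁆ ^ baerExp A⟩).val
      rw [hmulz _ _ (hcommB a b), baer_val_mul, mul_assoc _ (⁅b, a⁆ ^ baerExp A)]
      rw [← commutatorElement_inv a b, inv_pow, inv_mul_cancel, mul_one]
    rw [e1, map_mul, map_mul, hid ⟨⁅a, b⁆ ^ baerExp A⟩ (hcommB a b), hmulz _ _ (hcommB a b),
      hmulz _ _ (hval _)]
  · show (n₀ ⟨restrictAut φ A hD.invA s a⟩).val = (n₀ ⟨a⟩).val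
    refine congrArg Baer.val (hinj _ _ ?_)
    rw [hn₀, hn₀]
    exact hPt s ⟨a⟩
  · show (n₀ ⟨MulAut.conjNormal b a⟩).val = (n₀ ⟨a⟩).val
    let cj : Baer A hcl hod →* Baer A hcl hod :=
      baerMap (MulAut.conjNormal (H := A) b).toMonoidHom
    have h1 : ∀ s x, bm s (cj x) = cj (bm s x) := fun s x => congrArg Baer.mk (Subtype.ext (by
      simp [baerMap_val, bm, cj, map_mul, map_inv, hD.fixB s b hb]))
    have h2 : P (cj ⟨a⟩) = cj (P ⟨a⟩) := by
      rw [hP, hP, map_prod]
      exact Finset.prod_congr rfl fun s _ => h1 s _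
    have h3 : n₀ (cj ⟨a⟩) = cj (n₀ ⟨a⟩) := hinj _ _ (by rw [hn₀, ← map_pow, hn₀, h2])
    refine (congrArg Baer.val h3).trans (Subtype.ext ?_)
    show ((MulAut.conjNormal b (n₀ ⟨a⟩).val : A) : Y) = _
    rw [MulAut.conjNormal_apply, hD.central _ (n₀ ⟨a⟩).val.2 (hval _) b, mul_inv_cancel_right]
  · intro d σ a μ ha hs
    have key : ∀ F : Finset S, σ (∏ s ∈ F, bm s ⟨a⟩).val = μ ^ F.card • 1 := by
      intro F
      induction F using Finset.induction_on with
      | empty =>
        rw [Finset.prod_empty, Finset.card_empty, pow_zero, one_smul]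
        exact map_one σ
      | insert s F hs' ih =>
        rw [Finset.prod_insert hs', baer_val_mul, map_mul, map_mul, map_pow, ih,
          show (bm s ⟨a⟩).val = restrictAut φ A hD.invA s a from rfl, hs s]
        have hc : σ ⁅(∏ t ∈ F, bm t ⟨a⟩).val, restrictAut φ A hD.invA s a⁆ = 1 :=
          map_commutator_of_scalar σ _ _ (Or.inr (hs s))
        rw [hc, one_pow, mul_one, smul_mul_smul_comm, one_mul, Finset.card_insert_of_notMem hs',
          pow_succ']
    have h := key Finset.univ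
    rw [← hP, ← hn₀, baer_val_pow, map_pow, Finset.card_univ, ← Nat.card_eq_fintype_card] at h
    exact h

end Cfsg.Agent.IsaacsCorr
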