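import Cfsg.Agent.Lib.IsaacsCorr.Cover
import Cfsg.Agent.Lib.Clifford.DegreeRatio
import Cfsg.Agent.Lib.Glauberman.RelativeBase

/-!
# The covering of an invariant character, with operators

For a character `θ` of a normal subgroup `N` of `G` that is fixed by `G` and by a group `S` of
operators there is a finite cover of `G` on which `S` acts; operators of order prime to the group
act trivially over their fixed points.
-/

set_option autoImplicit false
set_option linter.style.haveILetI false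
set_option linter.unusedSectionVars false

namespace Cfsg.Agent.IsaacsCorr

open Cfsg Cfsg.Agent.Char Representation Cfsg.Agent.Clifford
open Cfsg.Agent.RelGlauberman (restrictAut)
open Cfsg.Agent.Glauberman (IsFix)

universe u v

variable {G : Type u} [Group G] {S : Type v} [Group S]

/-- A covering for `θ` with operators. -/
structure OpCover (φ : S →* MulAut G) (N : Subgroup G) (θ : IrrCharacter N) where
  d : ℕ
  E : Type u
  [group : Group E]
  [finite : Finite E]
  π : E →* G
  σ : Representation ℂ E (Fin d → ℂ)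
  M : Subgroup E
  [normal : M.Normal]
  cover : IsCover π σ M
  act : S →* MulAut E
  map_mem : ∀ m ∈ M, π m ∈ N
  exists_mem : ∀ n ∈ N, ∃ m ∈ M, π m = n
  character_M : ∀ (m : E) (hm : m ∈ M), σ.character m = θ.1 ⟨π m, map_mem m hm⟩
  map_act : ∀ s e, π (act s e) = φ s (π e)
  character_act : ∀ s e, σ.character (act s e) = σ.character e
  act_mem : ∀ s, ∀ m ∈ M, act s m ∈ M
  card_dvd : Nat.card E ∣ Nat.card G ^ 3

attribute [instance] OpCover.group OpCover.finite OpCover.normal

section Construct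

variable {d : ℕ} {N : Subgroup G} [N.Normal] (θ₀ : Representation ℂ N (Fin d → ℂ))

theorem conjUnit_scalar (c : ℂˣ) (A : (Module.End ℂ (Fin d → ℂ))ˣ) :
    MulAut.conj (A * scalarUnit (Fin d → ℂ) c) = MulAut.conj A := by
  refine MulEquiv.ext fun a => ?_
  simp only [MulAut.conj_apply, mul_inv_rev]
  calc A * scalarUnit _ c * a * ((scalarUnit _ c)⁻¹ * A⁻¹)
      = A * (scalarUnit _ c * a) * (scalarUnit _ c)⁻¹ * A⁻¹ := by group
    _ = A * (a * scalarUnit _ c) * (scalarUnit _ c)⁻¹ * A⁻¹ := by rw [scalarUnit_comm]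
    _ = A * a * A⁻¹ := by group

/-- Operators fixing `θ₀` act on the pairs of group elements and operators. -/
theorem exists_prodAct [Finite G] [θ₀.IsIrreducible] (φ : S →* MulAut G)
    (hN : ∀ s, ∀ x ∈ N, φ s x ∈ N)
    (hfix : ∀ s n, θ₀.character (restrictAut φ N hN s n) = θ₀.character n) :
    ∃ Φ : S →* MulAut (G × (Module.End ℂ (Fin d → ℂ))ˣ),
      ∀ s, ∃ A : (Module.End ℂ (Fin d → ℂ))ˣ,
        (∀ x, Φ s x = (φ s x.1, A * x.2 * A⁻¹)) ∧
        ∀ n, A * unitsHom θ₀ n * A⁻¹ = unitsHom θ₀ (restrictAut φ N hN s n) := by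
  have hA : ∀ s, ∃ A : (Module.End ℂ (Fin d → ℂ))ˣ,
      ∀ n, A * unitsHom θ₀ n * A⁻¹ = unitsHom θ₀ (restrictAut φ N hN s n) := by
    intro s
    obtain ⟨L, hL⟩ := exists_linearEquiv_of_character_eq θ₀
      (θ₀.comp (restrictAut φ N hN s : MulAut N).toMonoidHom) (funext fun n => hfix s n)
    let a : (Module.End ℂ (Fin d → ℂ))ˣ := ⟨L.toLinearMap, L.symm.toLinearMap,
      LinearMap.ext fun v => L.apply_symm_apply v, LinearMap.ext fun v => L.symm_apply_apply v⟩
    refine ⟨a, fun n => ?_⟩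
    rw [mul_inv_eq_iff_eq_mul]
    exact Units.ext (LinearMap.ext fun v => hL n v)
  choose A hA using hA
  have huniq : ∀ (s : S) (B : (Module.End ℂ (Fin d → ℂ))ˣ),
      (∀ n, B * unitsHom θ₀ n * B⁻¹ = unitsHom θ₀ (restrictAut φ N hN s n)) →
      MulAut.conj B = MulAut.conj (A s) := by
    intro s B hB
    have hcomm : ∀ n : N, (((A s)⁻¹ * B : (Module.End ℂ (Fin d → ℂ))ˣ) : Module.End ℂ _) * θ₀ n =
        θ₀ n * (((A s)⁻¹ * B : (Module.End ℂ (Fin d → ℂ))ˣ) : Module.End ℂ _) := by
      intro n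
      have h : (A s)⁻¹ * B * unitsHom θ₀ n = unitsHom θ₀ n * ((A s)⁻¹ * B) := by
        have h1 := (hB n).trans (hA s n).symm
        rw [mul_inv_eq_iff_eq_mul] at h1
        rw [mul_assoc _ B, h1]
        group
      exact congrArg Units.val h
    obtain ⟨c, hc⟩ := exists_scalar_of_commute θ₀ _ hcomm
    haveI : Nontrivial (Fin d → ℂ) := Char.nontrivial_of_isIrreducible θ₀
    have hc0 : c ≠ 0 := by
      rintro rfl
      rw [map_zero] at hc
      exact Units.ne_zero _ hc
    have : B = A s * scalarUnit _ (Units.mk0 c hc0) := by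
      rw [← (Units.ext hc : (A s)⁻¹ * B = scalarUnit _ (Units.mk0 c hc0)), mul_inv_cancel_left]
    rw [this, conjUnit_scalar]
  refine ⟨MonoidHom.mk' (fun s => MulEquiv.prodCongr (φ s) (MulAut.conj (A s))) fun s t => ?_,
    fun s => ⟨A s, fun x => rfl, hA s⟩⟩
  have h := huniq (s * t) (A s * A t) fun n => by
    calc A s * A t * unitsHom θ₀ n * (A s * A t)⁻¹
        = A s * (A t * unitsHom θ₀ n * (A t)⁻¹) * (A s)⁻¹ := by group
      _ = _ := by
          rw [hA, hA]
          congr 1
          rw [map_mul, MulAut.mul_apply]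
  refine MulEquiv.ext fun x => ?_
  rw [← h, map_mul]
  exact Prod.ext rfl rfl

end Construct

/-- The cover exists. -/
theorem exists_opCover [Fintype G] (φ : S →* MulAut G) (N : Subgroup G) [N.Normal]
    (hN : ∀ s, ∀ x ∈ N, φ s x ∈ N) (θ : IrrCharacter N)
    (hG : ∀ g : G, conjFun N θ.1 g = θ.1) (hS : IsFix (restrictAut φ N hN) θ.1) :
    Nonempty (OpCover φ N θ) := by
  classical
  haveI := Fintype.ofFinite N
  have hdd := Char.charDegree_dvd_card θ
  obtain ⟨d, θ₀, hirr, hθ⟩ := θ.2
  haveI := hirr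
  have hdd : d ∣ Nat.card N := by
    have h1 : θ.1 1 = (d : ℂ) := by rw [← hθ]; simp
    have h2 : (charDegree θ.1 : ℂ) = (d : ℂ) := (charDegree_cast θ).trans h1
    rwa [← (Nat.cast_injective h2 : charDegree θ.1 = d)]
  haveI : Nontrivial (Fin d → ℂ) := Char.nontrivial_of_isIrreducible θ₀
  have hinv : ∀ (g : G) (n : N), θ₀.character (MulAut.conjNormal g n) = θ₀.character n :=
    fun g n => by rw [hθ]; exact congrFun (hG g) n
  have hsurj := proj_surjective θ₀ hinv
  obtain ⟨Φ, hΦ⟩ := exists_prodAct θ₀ φ hN fun s n => by rw [hθ]; exact hS s n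
  have hI : ∀ s, ∀ x ∈ intertwinerGroup θ₀, Φ s x ∈ intertwinerGroup θ₀ := by
    intro s x hx n
    obtain ⟨A, hA, hA'⟩ := hΦ s
    obtain ⟨m, rfl⟩ := (restrictAut φ N hN s).surjective n
    rw [hA]
    show A * x.2 * A⁻¹ * unitsHom θ₀ (restrictAut φ N hN s m) =
      unitsHom θ₀ (MulAut.conjNormal (φ s x.1) (restrictAut φ N hN s m)) * (A * x.2 * A⁻¹)
    have e : MulAut.conjNormal (φ s x.1) (restrictAut φ N hN s m) =
        restrictAut φ N hN s (MulAut.conjNormal x.1 m) := Subtype.ext (by simp)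
    rw [e, ← hA', ← hA']
    calc A * x.2 * A⁻¹ * (A * unitsHom θ₀ m * A⁻¹) = A * (x.2 * unitsHom θ₀ m) * A⁻¹ := by group
      _ = A * (unitsHom θ₀ (MulAut.conjNormal x.1 m) * x.2) * A⁻¹ := by rw [hx m]
      _ = _ := by group
  set k := Nat.card N with hk
  have hF : ∀ s, ∀ x ∈ finitePart θ₀ k, restrictAut Φ _ hI s x ∈ finitePart θ₀ k := by
    intro s x hx
    obtain ⟨A, hA, -⟩ := hΦ s
    rw [mem_finitePart] at hx ⊢
    rw [RelGlauberman.coe_restrictAut, hA]
    refine Eq.trans ?_ hx
    congr 1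
    show LinearMap.det (Units.val (A * x.1.2 * A⁻¹) : Module.End ℂ (Fin d → ℂ)) = _
    rw [Units.val_mul, Units.val_mul, map_mul, map_mul, mul_right_comm, ← map_mul,
      ← Units.val_mul, mul_inv_cancel, Units.val_one, map_one, one_mul]
  have hk0 : k ≠ 0 := Nat.card_pos.ne'
  haveI := finite_finitePart θ₀ hk0
  have hofN : ∀ n, ofN θ₀ n ∈ finitePart θ₀ k := fun n => by
    rw [mem_finitePart]
    show LinearMap.det (θ₀ n) ^ k = 1
    rw [← map_pow, ← map_pow, hk, pow_card_eq_one', map_one, map_one]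
  let ι : N →* finitePart θ₀ k := (ofN θ₀).codRestrict _ hofN
  let π : finitePart θ₀ k →* G := (proj θ₀).comp (finitePart θ₀ k).subtype
  have hπι : ∀ n, π (ι n) = (n : G) := fun n => rfl
  haveI hMn : ι.range.Normal := ⟨by
    rintro _ ⟨n, rfl⟩ e
    exact ⟨MulAut.conjNormal (π e) n, Subtype.ext (conj_ofN θ₀ e.1 n).symm⟩⟩
  let σ : Representation ℂ (finitePart θ₀ k) (Fin d → ℂ) :=
    (Units.coeHom _).comp ((MonoidHom.snd G _).comp
      ((intertwinerGroup θ₀).subtype.comp (finitePart θ₀ k).subtype))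
  have hιinj : Function.Injective ι := fun a b h => Subtype.ext (by
    rw [← hπι a, h, hπι b])
  let e : N ≃* ι.range := MonoidHom.ofInjective hιinj
  have hirrM : Representation.IsIrreducible (MonoidHom.comp σ ι.range.subtype) := by
    have h := IsIrrCharacter.comp_surjective (χ := θ₀.character)
      (isIrrCharacter_character θ₀ hirr) e.symm.toMonoidHom e.symm.surjective
    refine Char.isIrreducible_of_classInner_eq_one _ ?_
    rw [show Representation.character (MonoidHom.comp σ ι.range.subtype) =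
      fun m => θ₀.character (e.symm m) from funext fun m => ?_]
    · exact classInner_irr_self h
    · obtain ⟨n, rfl⟩ := e.surjective m
      rw [MulEquiv.symm_apply_apply]
      rfl
  refine ⟨{
    d := d
    E := finitePart θ₀ k
    π := π
    σ := σ
    M := ι.range
    cover := ⟨fun g => ?_, ?_, hirrM, ?_⟩
    act := restrictAut (restrictAut Φ _ hI) _ hF
    map_mem := by rintro _ ⟨n, rfl⟩; exact n.2
    exists_mem := fun n hn => ⟨ι ⟨n, hn⟩, ⟨_, rfl⟩, rfl⟩
    character_M := ?_
    map_act := fun s x => ?_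
    character_act := fun s x => ?_
    act_mem := ?_
    card_dvd := ?_ }⟩
  · obtain ⟨x, hx⟩ := exists_finitePart_of_mem_range θ₀ (k := k) (g := g) (hsurj g)
    exact ⟨x, hx⟩
  · rintro _ ⟨n, rfl⟩ h
    rw [hπι] at h
    rw [show n = 1 from Subtype.ext h, map_one]
  · intro z h1 h2
    exact Subtype.ext (Subtype.ext (Prod.ext h1 (Units.ext h2)))
  · rintro _ ⟨n, rfl⟩
    show LinearMap.trace ℂ _ (θ₀ n) = θ.1 ⟨π (ι n), _⟩
    rw [← hθ]
    rfl
  · obtain ⟨A, hA, -⟩ := hΦ s
    show (Φ s x.1.1).1 = _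
    rw [hA]
    rfl
  · obtain ⟨A, hA, -⟩ := hΦ s
    show LinearMap.trace ℂ (Fin d → ℂ) (Units.val (Φ s x.1.1).2) = _
    rw [hA]
    show LinearMap.trace ℂ (Fin d → ℂ) (Units.val (A * x.1.1.2 * A⁻¹)) = _
    rw [Units.val_mul, Units.val_mul, LinearMap.trace_mul_cycle, ← Units.val_mul A⁻¹ A,
      inv_mul_cancel, Units.val_one, one_mul]
    rfl
  · rintro s _ ⟨n, rfl⟩
    obtain ⟨A, hA, hA'⟩ := hΦ s
    refine ⟨restrictAut φ N hN s n, Subtype.ext (Subtype.ext ?_)⟩
    show ((restrictAut φ N hN s n : G), unitsHom θ₀ (restrictAut φ N hN s n)) =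
      Φ s ((n : G), unitsHom θ₀ n)
    rw [hA, ← hA']
    rfl
  · rw [← π.ker.card_mul_index, Subgroup.index_ker, MonoidHom.range_eq_top.2 fun g => by
      obtain ⟨x, hx⟩ := exists_finitePart_of_mem_range θ₀ (k := k) (g := g) (hsurj g)
      exact ⟨x, hx⟩, Subgroup.card_top, pow_succ]
    refine Nat.mul_dvd_mul_right ?_ _
    have hker : ∀ z : π.ker, ∃ c : ℂˣ, c ∈ rootsOfUnity (d * k) ℂ ∧
        z.1.1 = scalarHom θ₀ c := by
      intro z
      obtain ⟨c, hc⟩ := exists_scalar_of_proj_eq θ₀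
        (x := (1 : intertwinerGroup θ₀)) (y := z.1.1) (by rw [map_one]; exact z.2.symm)
      rw [one_mul] at hc
      refine ⟨c, ?_, hc⟩
      have := (mem_finitePart θ₀).1 z.1.2
      rw [hc] at this
      rw [show (scalarHom θ₀ c).1.2 = scalarUnit (Fin d → ℂ) c from rfl, det_scalarUnit,
        Module.finrank_fin_fun, ← pow_mul] at this
      rw [mem_rootsOfUnity']
      exact this
    choose c hcr hc using hker
    have hinjc : ∀ a b : ℂˣ, scalarHom θ₀ a = scalarHom θ₀ b → a = b := fun a b h =>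
      scalarUnit_injective (congrArg (fun x : intertwinerGroup θ₀ => x.1.2) h)
    let f : π.ker →* rootsOfUnity (d * k) ℂ := MonoidHom.mk' (fun z => ⟨c z, hcr z⟩) fun a b =>
      Subtype.ext (hinjc _ _ (by
        show scalarHom θ₀ (c (a * b)) = scalarHom θ₀ (c a * c b)
        rw [map_mul (scalarHom θ₀), ← hc, ← hc, ← hc]
        rfl))
    have hd0 : d ≠ 0 := by
      rintro rfl
      exact not_subsingleton (Fin 0 → ℂ) inferInstance
    haveI : NeZero (d * k) := ⟨mul_ne_zero hd0 hk0⟩
    refine (Subgroup.card_dvd_of_injective f fun a b h => Subtype.ext (Subtype.ext ?_)).trans ?_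
    · rw [hc a, hc b]
      exact congrArg (fun x : rootsOfUnity (d * k) ℂ => scalarHom θ₀ x.1) h
    · rw [Complex.card_rootsOfUnity, pow_two]
      exact Nat.mul_dvd_mul (hdd.trans (Subgroup.card_subgroup_dvd_card N))
        (Subgroup.card_subgroup_dvd_card N)

namespace OpCover

variable {φ : S →* MulAut G} {N : Subgroup G} {θ : IrrCharacter N} (c : OpCover φ N θ)

theorem act_ker {z : c.E} (hz : c.π z = 1) (s : S) : c.act s z = z := by
  have hz' : c.π (c.act s z) = 1 := by rw [c.map_act, hz, map_one]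
  obtain ⟨a, -, ha⟩ := c.cover.exists_scalar hz
  obtain ⟨b, -, hb⟩ := c.cover.exists_scalar hz'
  have hab : b = a := by
    have h := c.character_act s z
    simp only [Representation.character, ha, hb, map_smul, LinearMap.trace_one,
      Module.finrank_fin_fun, smul_eq_mul] at h
    exact mul_right_cancel₀ c.cover.d_ne_zero h
  have h := c.cover.faithful (c.act s z * z⁻¹) (by simp [hz, hz']) (by
    rw [map_mul, hb, hab, ← ha, ← map_mul, mul_inv_cancel, map_one])
  exact mul_inv_eq_one.1 h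

/-- Coprime operators fix the whole fibre over a fixed point. -/
theorem act_eq_self [Finite G] [Finite S] (hcop : (Nat.card S).Coprime (Nat.card G)) {e : c.E}
    (he : ∀ s, φ s (c.π e) = c.π e) (s : S) : c.act s e = e := by
  obtain ⟨z, hstep⟩ : ∃ z, c.act s e = z * e := ⟨c.act s e * e⁻¹, by simp⟩
  have hzπ : c.π z = 1 := by
    have := congrArg c.π hstep
    rw [c.map_act, he, map_mul] at this
    exact mul_eq_right.1 this.symm
  have hpow : ∀ n : ℕ, c.act (s ^ n) e = z ^ n * e := by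
    intro n
    induction n with
    | zero => simp
    | succ n ih =>
      rw [pow_succ, map_mul, MulAut.mul_apply, hstep, map_mul, c.act_ker hzπ, ih, pow_succ' z,
        mul_assoc]
  have h1 : z ^ Nat.card S = 1 := by
    have := hpow (Nat.card S)
    rw [pow_card_eq_one', map_one, MulAut.one_apply] at this
    exact mul_eq_right.1 this.symm
  have h2 : z ^ Nat.card c.E = 1 := pow_card_eq_one'
  have hcop' : Nat.gcd (Nat.card S) (Nat.card c.E) = 1 :=
    Nat.Coprime.coprime_dvd_right c.card_dvd (hcop.pow_right 3)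
  have h3 := pow_gcd_eq_one.2 ⟨h1, h2⟩
  rw [hcop', pow_one] at h3
  rw [hstep, h3, one_mul]

end OpCover

end Cfsg.Agent.IsaacsCorr

namespace Cfsg.Agent.IsaacsCorr

open Cfsg Cfsg.Agent.Char Representation
open Cfsg.Agent.Glauberman (IsFix)
open Cfsg.Agent.RelGlauberman (restrictAut)

universe u v

namespace OpCover

variable {G : Type u} [Group G] {S : Type v} [Group S] {φ : S →* MulAut G} {N : Subgroup G}
  {θ : IrrCharacter N} (c : OpCover φ N θ)

/-- The copy of `N` in the cover. -/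
noncomputable def equivM : c.M ≃* N :=
  MulEquiv.ofBijective
    (MonoidHom.mk' (fun m : c.M => (⟨c.π m, c.map_mem m m.2⟩ : N)) fun _ _ =>
      Subtype.ext (map_mul c.π _ _))
    ⟨fun a b h => by
      have h' : c.π a = c.π b := congrArg Subtype.val h
      refine Subtype.ext (mul_inv_eq_one.1 (c.cover.inj _ (c.M.mul_mem a.2 (c.M.inv_mem b.2)) ?_))
      rw [map_mul, map_inv, h', mul_inv_cancel],
    fun n => by
      obtain ⟨m, hm, he⟩ := c.exists_mem n n.2
      exact ⟨⟨m, hm⟩, Subtype.ext he⟩⟩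

theorem coe_equivM (m : c.M) : ((c.equivM m : N) : G) = c.π m := rfl

/-- Inner products on the copy of `N`. -/
theorem classInner_M [Fintype c.M] [Fintype N] (f : G → ℂ) :
    classInner (fun m : c.M => f (c.π m)) (fun m : c.M => c.σ.character (m : c.E)) =
      classInner (resFun N f) θ.1 := by
  simp only [classInner, Nat.card_congr c.equivM.toEquiv]
  congr 1
  refine Fintype.sum_equiv c.equivM.toEquiv _ _ fun m => ?_
  show f (c.π m) * _ = f (c.π m) * _
  rw [c.character_M m m.2]
  rfl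

end OpCover

/-- Coprime operators fixing an invariant `θ` fix every character over `θ` when `G` is generated
by `N` and their fixed points. -/
theorem isFix_of_over {G : Type u} [Group G] [Fintype G] {S : Type v} [Group S] [Finite S]
    (φ : S →* MulAut G) (N : Subgroup G) [N.Normal] [Fintype N] (hN : ∀ s, ∀ x ∈ N, φ s x ∈ N)
    (θ : IrrCharacter N) (hG : ∀ g : G, conjFun N θ.1 g = θ.1)
    (hS : IsFix (restrictAut φ N hN) θ.1) (hcop : (Nat.card S).Coprime (Nat.card G))
    (hgen : ∀ g : G, ∃ n ∈ N, ∃ f, (∀ s, φ s f = f) ∧ g = n * f) (χ : IrrCharacter G)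
    (hχ : classInner (resFun N χ.1) θ.1 ≠ 0) : IsFix φ χ.1 := by
  classical
  obtain ⟨c⟩ := exists_opCover φ N hN θ hG hS
  haveI := Fintype.ofFinite c.E
  haveI := Fintype.ofFinite c.M
  haveI := Fintype.ofFinite (c.E ⧸ c.M)
  obtain ⟨β, hβ, hlift⟩ := c.cover.exists_lift χ (by rw [c.classInner_M]; exact hχ)
  intro s g
  obtain ⟨n, hn, f, hf, rfl⟩ := hgen g
  obtain ⟨m, hm, rfl⟩ := c.exists_mem n hn
  obtain ⟨e, rfl⟩ := c.cover.surj f
  rw [← map_mul c.π, ← c.map_act, ← hlift]
  show c.cover.lift β.1 _ = c.cover.lift β.1 _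
  rw [c.cover.lift_apply hβ, c.cover.lift_apply hβ, c.character_act]
  congr 2
  rw [map_mul (c.act s), c.act_eq_self hcop hf, QuotientGroup.mk_mul, QuotientGroup.mk_mul,
    (QuotientGroup.eq_one_iff m).2 hm, (QuotientGroup.eq_one_iff _).2 (c.act_mem s m hm)]

end Cfsg.Agent.IsaacsCorr
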