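import Cfsg.Agent.Lib.IsaacsCorr.Invariant

/-!
# Operators and the Clifford correspondence

Conjugation of fixed characters of a normal subgroup inside the data of the correspondence, and
fixed characters under Clifford induction.
-/

set_option autoImplicit false
set_option linter.style.haveILetI false
set_option linter.unusedSectionVars false

namespace Cfsg.Agent.IsaacsCorr

open Cfsg Cfsg.Agent.Char
open Cfsg.Agent.RelGlauberman (restrictAut)
open Cfsg.Agent.Glauberman (IsFix twistChar)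
open scoped ComplexConjugate

universe u v

variable {G : Type u} [Group G] [Fintype G] {S : Type v} [Group S]

/-- Induction commutes with an automorphism preserving the subgroup. -/
theorem indFun_comp_aut (H : Subgroup G) [Fintype H] (e : MulAut G) (eH : MulAut H)
    (h : ∀ x : H, (eH x : G) = e x) (f : H → ℂ) (g : G) :
    indFun H (fun x => f (eH x)) g = indFun H f (e g) := by
  simp only [indFun]
  congr 1
  refine Fintype.sum_equiv e.toEquiv _ _ fun x => ?_
  show _ = extendByZero H f ((e x)⁻¹ * e g * e x)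
  rw [← map_inv, ← map_mul, ← map_mul]
  by_cases hx : x⁻¹ * g * x ∈ H
  · rw [extendByZero_of_mem _ _ hx, ← h ⟨_, hx⟩, extendByZero_coe]
  · have hx' : e (x⁻¹ * g * x) ∉ H := fun h' => hx (by
      have h4 := h (eH.symm ⟨_, h'⟩)
      rw [eH.apply_symm_apply] at h4
      exact e.injective h4 ▸ (eH.symm ⟨_, h'⟩).2)
    rw [extendByZero_of_notMem _ _ hx, extendByZero_of_notMem _ _ hx']

/-- A Clifford induced character is fixed iff the character of the inertia group is. -/
theorem isFix_cliffordInduce_iff (φ : S →* MulAut G) (N : Subgroup G) [N.Normal] [Fintype N]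
    (θ : IrrCharacter N) [Fintype (inertia N θ.1)] (hN : ∀ s, ∀ x ∈ N, φ s x ∈ N)
    (hθ : IsFix (restrictAut φ N hN) θ.1) (hT : ∀ s, ∀ x ∈ inertia N θ.1, φ s x ∈ inertia N θ.1)
    (ξ : {ξ : IrrCharacter (inertia N θ.1) //
      classInner (resIncl N (irr_le_inertia N θ) ξ.1) θ.1 ≠ 0}) :
    IsFix φ (cliffordInduce N θ ξ).1 ↔ IsFix (restrictAut φ _ hT) ξ.1.1 := by
  constructor
  · intro h s x
    set ξ' := twistChar (restrictAut φ _ hT s) ξ.1
    have hover : classInner (resIncl N (irr_le_inertia N θ) ξ'.1) θ.1 =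
        classInner (resIncl N (irr_le_inertia N θ) ξ.1.1) θ.1 := by
      simp only [classInner]
      congr 1
      refine Fintype.sum_equiv (restrictAut φ N hN s).toEquiv _ _ fun n => ?_
      show ξ.1.1 (restrictAut φ _ hT s (Subgroup.inclusion _ n)) * conj (θ.1 n) =
        ξ.1.1 (Subgroup.inclusion _ (restrictAut φ N hN s n)) * conj (θ.1 (restrictAut φ N hN s n))
      rw [hθ]
      rfl
    have he : cliffordInduce N θ ⟨ξ', by rw [hover]; exact ξ.2⟩ = cliffordInduce N θ ξ := by
      refine Subtype.ext (funext fun g => ?_)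
      rw [cliffordInduce_coe, cliffordInduce_coe]
      show indFun _ (fun x => ξ.1.1 (restrictAut φ _ hT s x)) g = _
      rw [indFun_comp_aut _ (φ s) (restrictAut φ _ hT s) (fun x => rfl)]
      exact h s g
    exact congrFun (congrArg (fun ζ => ζ.1.1) ((cliffordInduce_bijective N θ).1 he)) x
  · intro h s g
    rw [cliffordInduce_coe, ← indFun_comp_aut _ (φ s) (restrictAut φ _ hT s) (fun x => rfl)]
    congr 2
    exact funext fun x => h s x

variable [Finite S] {φ : S →* MulAut G} {L I J : Subgroup G} [L.Normal] (hD : InvData φ L I J)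
include hD

theorem InvData.le_inertia_L (θ : IrrCharacter L) {l : G} (hl : l ∈ L) :
    conjFun L θ.1 l = θ.1 :=
  irr_le_inertia L θ hl

theorem InvData.isFix_conj (θ : IrrCharacter L) (hθ : IsFix (restrictAut φ L hD.invL) θ.1)
    {j : G} (hj : j ∈ J) : IsFix (restrictAut φ L hD.invL) (conjFun L θ.1 j) := by
  obtain ⟨l, hl, f, hf, rfl⟩ := hD.fixJ j hj
  rw [conjFun_mul, hD.le_inertia_L θ hl]
  intro s n
  refine Eq.trans ?_ (hθ s (MulAut.conjNormal f n))
  exact congrArg θ.1 (Subtype.ext (by simp [map_mul, map_inv, hf s]))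

/-- If `θ` and its conjugate by `i j` are fixed then `i` fixes `θ`. -/
theorem InvData.mem_inertia_of_fix [Fintype L] (θ : IrrCharacter L)
    (hθ : IsFix (restrictAut φ L hD.invL) θ.1) {i j : G} (hi : i ∈ I) (hj : j ∈ J)
    (hg : IsFix (restrictAut φ L hD.invL) (conjFun L θ.1 (i * j))) :
    conjFun L θ.1 i = θ.1 := by
  classical
  have hgi : IsFix (restrictAut φ L hD.invL) (conjFun L θ.1 i) := by
    have h := hD.isFix_conj (conjChar L θ (i * j)) hg (J.inv_mem hj)
    rwa [conjChar_coe, ← conjFun_mul, mul_inv_cancel_right] at h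
  set N : Subgroup G := I ⊓ inertia L θ.1
  have hN : ∀ s, ∀ x ∈ N, φ s x ∈ N := fun s x hx =>
    ⟨hD.invI s x hx.1, RelGlauberman.conjFun_map_eq φ L hD.invL hθ hθ hx.2 s⟩
  have hk : ∀ s, i⁻¹ * φ s i ∈ N := by
    intro s
    refine ⟨I.mul_mem (I.inv_mem hi) (hD.invI s i hi), ?_⟩
    have h1 : φ s i * i⁻¹ ∈ inertia L θ.1 := by
      show conjFun L θ.1 (φ s i * i⁻¹) = θ.1
      rw [conjFun_mul, RelGlauberman.conjFun_map_eq φ L hD.invL hθ hgi rfl s, ← conjFun_mul,
        mul_inv_cancel, conjFun_one]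
    have h2 : i⁻¹ * φ s i * (i⁻¹)⁻¹ * (φ s i)⁻¹ ∈ L :=
      hD.comm _ (I.inv_mem hi) _ (hD.invI s i hi)
    have h3 := Subgroup.mul_mem _ (irr_le_inertia L θ h2) h1
    simpa [mul_assoc] using h3
  obtain ⟨n, hn, hfix⟩ := Coprime.exists_fixed_mul_mem_hom φ hN
    (hD.cop.coprime_dvd_right (Subgroup.card_subgroup_dvd_card N))
    (Or.inr (by
      haveI := hD.solv
      exact Group.isSolvable_of_isSolvable_injective (Subgroup.subtype_injective N))) hk
  have hin : i * n ∈ L := hD.free _ (I.mul_mem hi hn.1) fun s => by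
    rw [(Coprime.mem_fixedBy φ).1 hfix s, mul_inv_cancel]
    exact L.one_mem
  have : i ∈ inertia L θ.1 := by
    have h := Subgroup.mul_mem _ (irr_le_inertia L θ hin) (Subgroup.inv_mem _ hn.2)
    rwa [mul_inv_cancel_right] at h
  exact this

/-- Fixed conjugates are conjugate by `J`. -/
theorem InvData.exists_conj_mem [Fintype L] (θ : IrrCharacter L)
    (hθ : IsFix (restrictAut φ L hD.invL) θ.1) {g : G}
    (hg : IsFix (restrictAut φ L hD.invL) (conjFun L θ.1 g)) :
    ∃ j ∈ J, conjFun L θ.1 j = conjFun L θ.1 g := by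
  obtain ⟨i, hi, j, hj, rfl⟩ := hD.gen g
  exact ⟨j, hj, by rw [conjFun_mul, hD.mem_inertia_of_fix θ hθ hi hj hg]⟩

theorem InvData.inertia_invariant (θ : IrrCharacter L)
    (hθ : IsFix (restrictAut φ L hD.invL) θ.1) :
    ∀ s, ∀ x ∈ inertia L θ.1, φ s x ∈ inertia L θ.1 := fun s _ hx =>
  RelGlauberman.conjFun_map_eq φ L hD.invL hθ hθ hx s

/-- The data inside the inertia group. -/
theorem InvData.restrict_inertia [Fintype L] (θ : IrrCharacter L)
    (hθ : IsFix (restrictAut φ L hD.invL) θ.1) :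
    InvData (restrictAut φ (inertia L θ.1) (hD.inertia_invariant θ hθ))
      (L.subgroupOf (inertia L θ.1)) (I.subgroupOf (inertia L θ.1))
      (J.subgroupOf (inertia L θ.1)) where
  cop := hD.cop.coprime_dvd_right (Subgroup.card_subgroup_dvd_card _)
  odd := hD.odd.of_dvd_nat (Subgroup.card_subgroup_dvd_card _)
  solv := by
    haveI := hD.solv
    exact Group.isSolvable_of_isSolvable_injective (Subgroup.subtype_injective _)
  hLI := fun x hx => hD.hLI hx
  hLJ := fun x hx => hD.hLJ hx
  invL := fun s x hx => hD.invL s _ hx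
  invI := fun s x hx => hD.invI s _ hx
  gen := by
    rintro ⟨g, hg⟩
    obtain ⟨i, hi, j, hj, rfl⟩ := hD.gen g
    have hgθ : conjFun L θ.1 (i * j) = θ.1 := hg
    have hiT : i ∈ inertia L θ.1 := hD.mem_inertia_of_fix θ hθ hi hj (by rw [hgθ]; exact hθ)
    have hjT : j ∈ inertia L θ.1 := by
      have h := Subgroup.mul_mem _ (Subgroup.inv_mem _ hiT) hg
      rwa [inv_mul_cancel_left] at h
    exact ⟨⟨i, hiT⟩, hi, ⟨j, hjT⟩, hj, rfl⟩
  inter := fun x h1 h2 => hD.inter _ h1 h2
  comm := fun x hx y hy => hD.comm _ hx _ hy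
  fixJ := by
    rintro ⟨j, hjT⟩ hj
    obtain ⟨l, hl, f, hf, rfl⟩ := hD.fixJ j hj
    have hfT : f ∈ inertia L θ.1 := by
      have h := Subgroup.mul_mem _ (Subgroup.inv_mem _ (irr_le_inertia L θ hl)) hjT
      rwa [inv_mul_cancel_left] at h
    exact ⟨⟨l, irr_le_inertia L θ hl⟩, hl, ⟨f, hfT⟩, fun s => Subtype.ext (hf s), rfl⟩
  free := fun x hx h => hD.free _ hx fun s => h s

end Cfsg.Agent.IsaacsCorr
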