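import Cfsg.Agent.Lib.IsaacsCorr.Baer
import Cfsg.Agent.Lib.IsaacsCorr.Build
import Cfsg.Agent.Lib.Char.FixedConstituent

/-!
# The odd correspondence for a fixed-point-free central extension

The involution `τ` turns the correspondence into Glauberman's for the prime two.
-/

set_option autoImplicit false
set_option linter.style.haveILetI false
set_option linter.unusedSectionVars false

namespace Cfsg.Agent.IsaacsCorr

open Cfsg Cfsg.Agent.Char Cfsg.Agent.Coprime
open Cfsg.Agent.RelGlauberman (restrictAut)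
open Cfsg.Agent.Glauberman (IsFix mult mult_eq twistChar)
open scoped commutatorElement

universe u v

/-- A correspondence by odd multiplicity between `P` and `Q`. -/
structure OddBij {G H : Type*} [Group G] [Fintype G] [Group H] [Fintype H] (ι : H →* G)
    (P : IrrCharacter G → Prop) (Q : IrrCharacter H → Prop) : Prop where
  existsUnique_right : ∀ χ, P χ → ∃! ψ, Q ψ ∧ Odd (mult ι χ ψ)
  left_unique : ∀ χ χ' ψ, P χ → P χ' → Q ψ → Odd (mult ι χ ψ) → Odd (mult ι χ' ψ) → χ = χ'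
  exists_left : ∀ ψ, Q ψ → ∃ χ, P χ ∧ Odd (mult ι χ ψ)

variable {Y : Type u} [Group Y] {S : Type v} [Group S] {φ : S →* MulAut Y} {A B : Subgroup Y}

/-- The involution, and the invariance of fixed characters of `A`. -/
theorem CoreData.exists_involution [Finite S] [Fintype Y] [A.Normal] (hD : CoreData φ A B) :
    ∃ τ : MulAut Y, τ * τ = 1 ∧ (∀ y, τ y = y ↔ y ∈ B) ∧ (∀ s y, τ (φ s y) = φ s (τ y)) ∧
      ∃ hτA : ∀ a ∈ A, τ a ∈ A, ∀ θ : IrrCharacter A, IsFix (restrictAut φ A hD.invA) θ.1 →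
        (∀ y, conjFun A θ.1 y = θ.1) ∧ ∀ a : A, θ.1 ⟨τ a, hτA a a.2⟩ = θ.1 a := by
  classical
  haveI := Fintype.ofFinite A
  obtain ⟨n, hnB, hnid, hnmul, hns, hnb, hnσ⟩ := hD.exists_average
  have hz : ∀ a b : A, (a : Y) ∈ B → a * b = b * a := fun a b ha =>
    Subtype.ext (hD.central a a.2 ha b).symm
  have hcommB : ∀ a b : A, ((⁅a, b⁆ : A) : Y) ∈ B := fun a b => by
    rw [commutatorElement_def]
    exact hD.comm a a.2 b b.2
  have hinv : ∀ a, n a⁻¹ = (n a)⁻¹ := fun a => by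
    have h1 : n 1 = 1 := hnid 1 B.one_mem
    have h := hnmul a a⁻¹
    rw [mul_inv_cancel, h1, commutatorElement_eq_one_iff_mul_comm.2
      ((Commute.refl a).inv_right), one_pow, mul_one] at h
    exact (eq_inv_of_mul_eq_one_right h.symm)
  have hnn : ∀ a, n (n a) = n a := fun a => hnid _ (hnB a)
  let t : A → A := fun a => n a * n a * a⁻¹
  have htmul : ∀ a b, t (a * b) = t a * t b := by
    intro a b
    have hc := hcommB a b
    have hk : ⁅a, b⁆ ^ baerExp A * ⁅a, b⁆ ^ baerExp A = ⁅a, b⁆ := by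
      rw [← pow_add, ← two_mul, two_baerExp hD.odd_A, pow_succ, pow_card_eq_one', one_mul]
    have hkB : ((⁅a, b⁆ ^ baerExp A : A) : Y) ∈ B := by
      rw [Subgroup.coe_pow]; exact B.pow_mem hc _
    show n (a * b) * n (a * b) * (a * b)⁻¹ = n a * n a * a⁻¹ * (n b * n b * b⁻¹)
    rw [hnmul]
    calc n a * n b * ⁅a, b⁆ ^ baerExp A * (n a * n b * ⁅a, b⁆ ^ baerExp A) * (a * b)⁻¹
        = n a * n b * (n a * n b) * (⁅a, b⁆ ^ baerExp A * ⁅a, b⁆ ^ baerExp A) * (a * b)⁻¹ := by
          rw [mul_assoc (n a * n b) (⁅a, b⁆ ^ baerExp A), ← mul_assoc (⁅a, b⁆ ^ baerExp A),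
            hz _ (n a * n b) hkB]
          group
      _ = n a * n b * (n a * n b) * (⁅a, b⁆ * (a * b)⁻¹) := by rw [hk, mul_assoc]
      _ = n a * n a * (n b * n b) * (a⁻¹ * b⁻¹) := by
          rw [hz ⁅a, b⁆ (a * b)⁻¹ hc,
            show (a * b)⁻¹ * ⁅a, b⁆ = a⁻¹ * b⁻¹ by rw [commutatorElement_def]; group,
            mul_assoc (n a), ← mul_assoc (n b) (n a), hz (n b) (n a) (hnB b)]
          group
      _ = n a * n a * a⁻¹ * (n b * n b * b⁻¹) := by
          have h2 : ((n b * n b : A) : Y) ∈ B := B.mul_mem (hnB b) (hnB b)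
          calc n a * n a * (n b * n b) * (a⁻¹ * b⁻¹) = n a * n a * ((n b * n b) * a⁻¹) * b⁻¹ := by
                group
            _ = _ := by rw [hz _ a⁻¹ h2]; group
  have htB : ∀ a : A, (a : Y) ∈ B → t a = a := fun a ha => by
    show n a * n a * a⁻¹ = a
    rw [hnid a ha, mul_inv_cancel_right]
  have htn : ∀ a, n (t a) = n a := by
    intro a
    show n (n a * n a * a⁻¹) = n a
    have h2 : ((n a * n a : A) : Y) ∈ B := B.mul_mem (hnB a) (hnB a)
    rw [hnmul, hnid _ h2, commutatorElement_eq_one_iff_mul_comm.2 (hz _ _ h2), one_pow, mul_one,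
      hinv, mul_inv_cancel_right]
  have htt : ∀ a, t (t a) = a := by
    intro a
    show n (t a) * n (t a) * (n a * n a * a⁻¹)⁻¹ = a
    rw [htn, mul_inv_rev, inv_inv, ← mul_assoc, hz (n a * n a) a (B.mul_mem (hnB a) (hnB a)),
      mul_inv_cancel_right]
  have htfix : ∀ a, t a = a → (a : Y) ∈ B := by
    intro a ha
    have h2 : ((a ^ 2 : A) : Y) ∈ B := by
      have h3 : n a * n a = a * a := by
        rw [← mul_inv_eq_iff_eq_mul]; exact ha
      rw [pow_two, ← h3]
      exact B.mul_mem (hnB a) (hnB a)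
    obtain ⟨k, hk⟩ := hD.odd_A
    have h4 : a = (a ^ 2) ^ (k + 1) := by
      rw [← pow_mul, show 2 * (k + 1) = Nat.card A + 1 by omega, pow_succ, pow_card_eq_one', one_mul]
    rw [h4, Subgroup.coe_pow]
    exact B.pow_mem h2 _
  have hts : ∀ s a, t (restrictAut φ A hD.invA s a) = restrictAut φ A hD.invA s (t a) := by
    intro s a
    show n _ * n _ * _ = restrictAut φ A hD.invA s (n a * n a * a⁻¹)
    rw [hns, map_mul, map_mul, map_inv]
    have : restrictAut φ A hD.invA s (n a) = n a := Subtype.ext (hD.fixB s _ (hnB a))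
    rw [this]
  have htb : ∀ b ∈ B, ∀ a, t (MulAut.conjNormal b a) = MulAut.conjNormal b (t a) := by
    intro b hb a
    show n _ * n _ * _ = MulAut.conjNormal b (n a * n a * a⁻¹)
    rw [hnb b hb, map_mul, map_mul, map_inv]
    have : MulAut.conjNormal b (n a) = n a := Subtype.ext (by
      rw [MulAut.conjNormal_apply, hD.central _ (n a).2 (hnB a) b, mul_inv_cancel_right])
    rw [this]
  choose af haf bf hbf hab using hD.gen
  let T : Y → Y := fun y => (t ⟨af y, haf y⟩ : Y) * bf y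
  have hT : ∀ (a : A) (b : Y), b ∈ B → T (a * b) = (t a : Y) * b := by
    intro a b hb
    set y := (a : Y) * b
    have hz1 : ((a⁻¹ * ⟨af y, haf y⟩ : A) : Y) = b * (bf y)⁻¹ := by
      have := hab y
      simp only [Subgroup.coe_mul, Subgroup.coe_inv]
      rw [inv_mul_eq_iff_eq_mul, ← mul_assoc, eq_mul_inv_iff_mul_eq]
      exact this.symm
    have hzB : ((a⁻¹ * ⟨af y, haf y⟩ : A) : Y) ∈ B := by
      rw [hz1]; exact B.mul_mem hb (B.inv_mem (hbf y))
    have h2 : (⟨af y, haf y⟩ : A) = a * (a⁻¹ * ⟨af y, haf y⟩) := (mul_inv_cancel_left _ _).symm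
    show (t ⟨af y, haf y⟩ : Y) * bf y = _
    rw [h2, htmul, htB _ hzB, Subgroup.coe_mul, hz1, ← mul_assoc, inv_mul_cancel_right]
  have hTmul : ∀ x y, T (x * y) = T x * T y := by
    intro x y
    obtain ⟨a, ha, b, hb, rfl⟩ := hD.gen x
    obtain ⟨a', ha', b', hb', rfl⟩ := hD.gen y
    have e : a * b * (a' * b') =
        ((⟨a, ha⟩ * MulAut.conjNormal b ⟨a', ha'⟩ : A) : Y) * (b * b') := by
      simp [mul_assoc]
    rw [e, hT _ _ (B.mul_mem hb hb'), hT ⟨a, ha⟩ b hb, hT ⟨a', ha'⟩ b' hb', htmul, htb b hb]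
    simp [mul_assoc]
  have hTT : ∀ y, T (T y) = y := by
    intro y
    show T ((t ⟨af y, haf y⟩ : Y) * bf y) = y
    rw [hT _ _ (hbf y), htt]
    exact (hab y).symm
  let τ : MulAut Y :=
    { toFun := T, invFun := T, left_inv := hTT, right_inv := hTT, map_mul' := hTmul }
  have hτA' : ∀ a : A, τ a = (t a : Y) := fun a => by
    have := hT a 1 B.one_mem
    rw [mul_one, mul_one] at this
    exact this
  refine ⟨τ, MulEquiv.ext hTT, fun y => ?_, fun s y => ?_, fun a ha => ?_, fun θ hθ => ?_⟩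
  · obtain ⟨a, ha, b, hb, rfl⟩ := hD.gen y
    show T (a * b) = a * b ↔ _
    rw [hT ⟨a, ha⟩ b hb, mul_left_inj]
    constructor
    · intro h
      exact B.mul_mem (htfix ⟨a, ha⟩ (Subtype.ext h)) hb
    · intro h
      have : a ∈ B := by
        have := B.mul_mem h (B.inv_mem hb)
        rwa [mul_inv_cancel_right] at this
      rw [htB ⟨a, ha⟩ this]
  · obtain ⟨a, ha, b, hb, rfl⟩ := hD.gen y
    show T (φ s (a * b)) = φ s (T (a * b))
    rw [hT ⟨a, ha⟩ b hb, map_mul, map_mul, hD.fixB s b hb,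
      show φ s a = (restrictAut φ A hD.invA s ⟨a, ha⟩ : Y) from rfl, hT _ _ hb, hts]
    rfl
  · rw [show a = ((⟨a, ha⟩ : A) : Y) from rfl, hτA']
    exact (t _).2
  -- fixed characters of `A`
  obtain ⟨d, σ, hirr, hσ⟩ := θ.2
  haveI := hirr
  haveI : Nontrivial (Fin d → ℂ) := Char.nontrivial_of_isIrreducible σ
  have hd : (d : ℂ) ≠ 0 := by
    have := IsIrrCharacter.apply_one_ne_zero θ.2
    rw [← hσ] at this
    simpa using this
  have hscal : ∀ a : A, (∀ x, σ ⁅a, x⁆ = 1) → ∃ c : ℂ, σ a = c • 1 := by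
    intro a ha
    obtain ⟨c, hc⟩ := Clifford.exists_scalar_of_commute σ (σ a) fun x => by
      have h := congrArg (fun e => e * σ (x * a)) (ha x)
      simp only [← map_mul, one_mul] at h
      rw [show ⁅a, x⁆ * (x * a) = a * x by rw [commutatorElement_def]; group, map_mul, map_mul] at h
      exact h
    exact ⟨c, by rw [hc, Algebra.algebraMap_eq_smul_one]⟩
  have hcen : ∀ z : A, (z : Y) ∈ B → ∃ c : ℂ, σ z = c • 1 := fun z hz' => hscal z fun x => by
    rw [commutatorElement_eq_one_iff_mul_comm.2 (hz z x hz'), map_one]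
  have hval : ∀ (x : A) (c : ℂ), σ x = c • 1 → θ.1 x = c * d := fun x c h => by
    rw [← hσ]; simp [Representation.character, h]
  -- the values
  have hzero : ∀ a : A, (¬ ∃ c : ℂ, σ a = c • 1) → θ.1 a = 0 := by
    intro a hna
    obtain ⟨x, hx⟩ : ∃ x, σ ⁅a, x⁆ ≠ 1 := by
      by_contra hno; push Not at hno; exact hna (hscal a hno)
    obtain ⟨c, hc⟩ := hcen _ (hcommB a x)
    have hc1 : c ≠ 1 := by rintro rfl; exact hx (by rw [hc, one_smul])
    have e1 : θ.1 (⁅a, x⁆ * (x * a * x⁻¹)) = θ.1 a := by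
      congr 1
      rw [commutatorElement_def]; group
    have e2 : θ.1 (⁅a, x⁆ * (x * a * x⁻¹)) = c * θ.1 (x * a * x⁻¹) := by
      rw [← hσ]; simp [Representation.character, map_mul, hc]
    rw [e2, IsCharacter.isClassFunction (irr_isCharacter θ)] at e1
    exact (mul_right_eq_self₀.1 (show θ.1 a * c = θ.1 a by rw [mul_comm]; exact e1)).resolve_left hc1
  have hscalar : ∀ (a : A) (c : ℂ), σ a = c • 1 → θ.1 a = θ.1 (n a) := by
    intro a c hc
    have hfix : ∀ s, σ (restrictAut φ A hD.invA s a) = c • 1 := by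
      intro s
      obtain ⟨c', hc'⟩ := hscal (restrictAut φ A hD.invA s a) fun x => by
        obtain ⟨y, rfl⟩ := (restrictAut φ A hD.invA s).surjective x
        have : restrictAut φ A hD.invA s ⁅a, y⁆ = ⁅a, y⁆ :=
          Subtype.ext (hD.fixB s _ (hcommB a y))
        rw [← map_commutatorElement, this, map_commutator_of_scalar σ a y (Or.inl hc)]
      have h := hθ s a
      rw [hval _ c' hc', hval _ c hc] at h
      rw [hc', mul_right_cancel₀ hd h]
    obtain ⟨e, he⟩ := hcen (n a) (hnB a)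
    have h1 := hnσ σ a c hc hfix
    rw [he, smul_pow, one_pow] at h1
    have hsm : ∀ x y : ℂ, x • (1 : Module.End ℂ (Fin d → ℂ)) = y • 1 → x = y :=
      fun x y h => smul_left_injective ℂ (one_ne_zero (α := Module.End ℂ (Fin d → ℂ))) h
    have h1' := hsm _ _ h1
    have hord : ∀ (x : A) (u : ℂ), σ x = u • 1 → u ^ Nat.card A = 1 := fun x u hu => hsm _ _ (by
      have h := congrArg σ (pow_card_eq_one' (x := x))
      rw [map_pow, map_one, hu, smul_pow, one_pow] at h
      exact h.trans (one_smul ℂ _).symm)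
    have hc0 : c ≠ 0 := by
      intro h0
      have := hord a c hc
      rw [h0, zero_pow Nat.card_pos.ne'] at this
      exact zero_ne_one this
    have h2 : (e / c) ^ Nat.gcd (Nat.card S) (Nat.card A) = 1 := pow_gcd_eq_one.2
      ⟨by rw [div_pow, h1', div_self (pow_ne_zero _ hc0)],
       by rw [div_pow, hord a c hc, hord (n a) e he, div_one]⟩
    rw [Nat.Coprime.gcd_eq_one (hD.cop.coprime_dvd_right (Subgroup.card_subgroup_dvd_card A)),
      pow_one, div_eq_one_iff_eq hc0] at h2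
    rw [hval a c hc, hval (n a) e he, h2]
  have hgen : ∀ f : A → A, (∀ a, n (f a) = n a) →
      (∀ a, (∃ c : ℂ, σ (f a) = c • 1) ↔ ∃ c : ℂ, σ a = c • 1) → ∀ a, θ.1 (f a) = θ.1 a := by
    intro f hf hfs a
    by_cases h : ∃ c : ℂ, σ a = c • 1
    · obtain ⟨c, hc⟩ := h
      obtain ⟨c', hc'⟩ := (hfs a).2 ⟨c, hc⟩
      rw [hscalar _ c' hc', hscalar _ c hc, hf]
    · rw [hzero a h, hzero (f a) fun h' => h ((hfs a).1 h')]
  refine ⟨fun y => ?_, fun a => ?_⟩
  · obtain ⟨a, ha, b, hb, rfl⟩ := hD.gen y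
    rw [conjFun_mul, (le_inertia A (IsCharacter.isClassFunction (irr_isCharacter θ)) ha :
      conjFun A θ.1 a = θ.1)]
    have hkey : ∀ b ∈ B, ∀ x : A, (∃ c : ℂ, σ x = c • 1) →
        ∃ c : ℂ, σ (MulAut.conjNormal b x) = c • 1 := by
      rintro b hb x ⟨c, hc⟩
      refine hscal _ fun w => ?_
      obtain ⟨w, rfl⟩ := (MulAut.conjNormal (H := A) b).surjective w
      have : MulAut.conjNormal b ⁅x, w⁆ = ⁅x, w⁆ := Subtype.ext (by
        rw [MulAut.conjNormal_apply, hD.central _ (⁅x, w⁆ : A).2 (hcommB x w) b,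
          mul_inv_cancel_right])
      rw [← map_commutatorElement, this, map_commutator_of_scalar σ x w (Or.inl hc)]
    refine funext fun x => hgen _ (hnb b hb) (fun x => ⟨fun h => ?_, hkey b hb x⟩) x
    have := hkey b⁻¹ (B.inv_mem hb) _ h
    rwa [← MulAut.mul_apply, ← map_mul, inv_mul_cancel, map_one, MulAut.one_apply] at this
  · have he : (⟨τ a, by rw [hτA']; exact (t a).2⟩ : A) = t a := Subtype.ext (hτA' a)
    rw [he]
    have hkey : ∀ a, (∃ c : ℂ, σ a = c • 1) → ∃ c : ℂ, σ (t a) = c • 1 := by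
      rintro a ⟨c, hc⟩
      obtain ⟨e, he⟩ := hcen (n a) (hnB a)
      have h : σ a⁻¹ * σ a = 1 := by rw [← map_mul, inv_mul_cancel, map_one]
      rw [hc, mul_smul_comm, mul_one] at h
      have hc0 : c ≠ 0 := by
        rintro rfl
        rw [zero_smul] at h
        exact zero_ne_one h
      obtain ⟨c', hc'⟩ : ∃ c' : ℂ, σ a⁻¹ = c' • 1 :=
        ⟨c⁻¹, by rw [← h, inv_smul_smul₀ hc0]⟩
      exact ⟨e * e * c', by simp [t, map_mul, he, hc', smul_smul]; ring_nf⟩
    exact hgen t htn (fun a => ⟨fun h => by rw [← htt a]; exact hkey _ h, hkey a⟩) a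

/-- The correspondence. -/
theorem CoreData.oddBij [Finite S] [Fintype Y] [A.Normal] [Fintype B] (hD : CoreData φ A B)
    (hsolv : Group.IsSolvable Y) : OddBij B.subtype (fun β => IsFix φ β.1) (fun _ => True) := by
  classical
  haveI := Fintype.ofFinite A
  haveI : Fact (Nat.Prime 2) := ⟨Nat.prime_two⟩
  obtain ⟨τ, hτ2, hτfix, hτs, hτA, hθ⟩ := hD.exists_involution
  set T := Subgroup.zpowers τ with hT
  let ψ : T →* MulAut Y := T.subtype
  have hmemT : ∀ t : T, (t : MulAut Y) = 1 ∨ (t : MulAut Y) = τ := by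
    rintro ⟨t, ht⟩
    obtain ⟨k, rfl⟩ := Subgroup.mem_zpowers_iff.1 ht
    rcases Int.even_or_odd k with ⟨j, rfl⟩ | ⟨j, rfl⟩
    · left
      show τ ^ (j + j) = 1
      rw [← two_mul, zpow_mul, show (2 : ℤ) = ((2 : ℕ) : ℤ) from rfl, zpow_natCast, pow_two, hτ2,
        one_zpow]
    · right
      show τ ^ (2 * j + 1) = τ
      rw [zpow_add, zpow_mul, show (2 : ℤ) = ((2 : ℕ) : ℤ) from rfl, zpow_natCast, pow_two, hτ2,
        one_zpow, one_mul, zpow_one]
  have hpow : τ ^ 2 = 1 := by rw [pow_two, hτ2]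
  have hcardT : Nat.card T ∣ 2 := by rw [hT, Nat.card_zpowers]; exact orderOf_dvd_of_pow_eq_one hpow
  have hTp : IsPGroup 2 T := fun t => ⟨1, by
    rcases hmemT t with h | h <;> refine Subtype.ext ?_ <;> simp [h, hpow]⟩
  have hι : Glauberman.IsFixedEmbedding ψ B.subtype :=
    ⟨B.subtype_injective, fun g => ⟨fun ⟨b, hb⟩ t => by
        subst hb
        show (t : MulAut Y) (b : Y) = b
        rcases hmemT t with h | h <;> rw [h]
        · rfl
        · exact (hτfix _).2 b.2,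
      fun h => ⟨⟨g, (hτfix g).1 (h ⟨τ, Subgroup.mem_zpowers τ⟩)⟩, rfl⟩⟩⟩
  have hY2 : ¬ 2 ∣ Nat.card Y := hD.odd.not_two_dvd_nat
  have hTfix : ∀ f : Y → ℂ, (∀ y, f (τ y) = f y) → IsFix ψ f := fun f hf t y => by
    show f ((t : MulAut Y) y) = f y
    rcases hmemT t with h | h <;> rw [h]
    · rfl
    · exact hf y
  have hquot : Group.IsSolvable (Y ⧸ A) := by
    haveI := hsolv
    exact Group.isSolvable_of_surjective (QuotientGroup.mk'_surjective A)
  -- fixed by the operators means fixed by the involution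
  have hiff : ∀ β : IrrCharacter Y, IsFix φ β.1 ↔ IsFix ψ β.1 := by
    intro β
    constructor
    · intro hβ
      obtain ⟨θ, hθfix, hθβ⟩ := exists_fix_constituent_of_coprime_index φ A hD.invA
        (hD.cop.coprime_dvd_right (Subgroup.index_dvd_card A))
        (Or.inr hquot) hβ
      obtain ⟨hθY, hθτ⟩ := hθ θ hθfix
      have hinvA : ∀ t : T, ∀ a ∈ A, ψ t a ∈ A := fun t a ha => by
        show (t : MulAut Y) a ∈ A
        rcases hmemT t with h | h <;> rw [h]
        exacts [ha, hτA a ha]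
      have hTθ : IsFix (restrictAut ψ A hinvA) θ.1 := by
        intro t a
        rcases hmemT t with h | h
        · exact congrArg θ.1 (Subtype.ext (by show (t : MulAut Y) a = a; rw [h]; rfl))
        · refine Eq.trans ?_ (hθτ a)
          exact congrArg θ.1 (Subtype.ext (by show (t : MulAut Y) a = τ a; rw [h]))
      exact isFix_of_over ψ A hinvA θ hθY hTθ
        (Nat.Coprime.coprime_dvd_left hcardT (Nat.coprime_two_left.2 hD.odd))
        (fun g => by
          obtain ⟨a, ha, b, hb, rfl⟩ := hD.gen g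
          exact ⟨a, ha, b, fun t => hι.map_fixed ⟨b, hb⟩ t, rfl⟩) β hθβ
    · intro hβ s y
      obtain ⟨γ, hγ⟩ := Glauberman.exists_corr_right hTp hι hY2 hβ
      have h2 : IsFix ψ (twistChar (φ s) β).1 := hTfix _ fun y => by
        show β.1 (φ s (τ y)) = β.1 (φ s y)
        rw [← hτs]
        exact hβ ⟨τ, Subgroup.mem_zpowers τ⟩ _
      have hm := Glauberman.mult_twist (ι := B.subtype) (φ s) 1 (fun b => hD.fixB s b b.2) β γ
      have hγ1 : twistChar (1 : MulAut B) γ = γ := Subtype.ext (funext fun _ => rfl)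
      rw [hγ1] at hm
      have := Glauberman.corr_left_unique hTp hι hY2 ⟨h2, by rw [hm]; exact hγ.2⟩ hγ
      exact congrFun (congrArg Subtype.val this) y
  have hodd : ∀ m : ℕ, Odd m ↔ ¬ 2 ∣ m := fun m => by
    rw [← Nat.not_even_iff_odd, even_iff_two_dvd]
  refine ⟨fun β hβ => ?_, fun β β' γ hβ hβ' _ h h' => ?_, fun γ _ => ?_⟩
  · obtain ⟨γ, hγ, huniq⟩ := Glauberman.existsUnique_corr hTp hι hY2 ((hiff β).1 hβ)
    exact ⟨γ, ⟨trivial, (hodd _).2 hγ.2⟩, fun γ' hγ' =>
      huniq γ' ⟨(hiff β).1 hβ, (hodd _).1 hγ'.2⟩⟩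
  · exact Glauberman.corr_left_unique hTp hι hY2 ⟨(hiff β).1 hβ, (hodd _).1 h⟩
      ⟨(hiff β').1 hβ', (hodd _).1 h'⟩
  · obtain ⟨β, hβ⟩ := Glauberman.exists_corr_left hTp hι hY2 γ
    exact ⟨β, (hiff β).2 hβ.1, (hodd _).2 hβ.2⟩

end Cfsg.Agent.IsaacsCorr
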