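import Cfsg.Agent.Lib.IsaacsCorr.Core
import Cfsg.Agent.Lib.CharInt.Central

/-!
# The odd correspondence over an invariant character

`L ≤ I`, `J` in `G` with `G = I J`, `I ∩ J = L`, `I / L` abelian and fixed-point-free, `J` generated
by `L` and fixed points: the correspondence over an invariant fixed character of `L` is that of the
central extension `E / M` of a cover.
-/

set_option autoImplicit false
set_option linter.style.haveILetI false
set_option linter.unusedSectionVars false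

namespace Cfsg.Agent.IsaacsCorr

open Cfsg Cfsg.Agent.Char
open Cfsg.Agent.RelGlauberman (restrictAut quotAut)
open Cfsg.Agent.Glauberman (IsFix mult mult_eq twistChar)
open scoped ComplexConjugate

universe u v

/-- A central element acts on an irreducible character by a factor. -/
theorem exists_central_factor {Y : Type u} [Group Y] (χ : IrrCharacter Y) (z : Y)
    (hz : ∀ y, y * z = z * y) : ∃ ω : ℂ, ∀ y, χ.1 (z * y) = ω * χ.1 y := by
  obtain ⟨n, ρ, hρ, hχ⟩ := χ.2
  haveI := hρ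
  obtain ⟨ω, hω⟩ := CharInt.exists_smul_one_of_mem_center ρ (Subgroup.mem_center_iff.2 hz)
  exact ⟨ω, fun y => by rw [← hχ]; simp [Representation.character, map_mul, hω]⟩

/-- The hypotheses over an invariant character. -/
structure InvData {G : Type u} [Group G] {S : Type v} [Group S] (φ : S →* MulAut G)
    (L I J : Subgroup G) : Prop where
  cop : (Nat.card S).Coprime (Nat.card G)
  odd : Odd (Nat.card G)
  solv : Group.IsSolvable G
  hLI : L ≤ I
  hLJ : L ≤ J
  invL : ∀ s, ∀ x ∈ L, φ s x ∈ L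
  invI : ∀ s, ∀ x ∈ I, φ s x ∈ I
  gen : ∀ g, ∃ i ∈ I, ∃ j ∈ J, g = i * j
  inter : ∀ x ∈ I, x ∈ J → x ∈ L
  comm : ∀ x ∈ I, ∀ y ∈ I, x * y * x⁻¹ * y⁻¹ ∈ L
  fixJ : ∀ j ∈ J, ∃ l ∈ L, ∃ f, (∀ s, φ s f = f) ∧ j = l * f
  free : ∀ x ∈ I, (∀ s, φ s x * x⁻¹ ∈ L) → x ∈ L

theorem InvData.oddBij {G : Type u} [Group G] [Fintype G] {S : Type v} [Group S] [Finite S]
    {φ : S →* MulAut G} {L I J : Subgroup G} [L.Normal] [Fintype L] [I.Normal] [Fintype J]
    (hD : InvData φ L I J) (θ : IrrCharacter L) (hG : ∀ g : G, conjFun L θ.1 g = θ.1)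
    (hS : IsFix (restrictAut φ L hD.invL) θ.1) :
    OddBij J.subtype (fun χ => IsFix φ χ.1 ∧ classInner (resFun L χ.1) θ.1 ≠ 0)
      (fun ψ => classInner (resIncl L hD.hLJ ψ.1) θ.1 ≠ 0) := by
  classical
  obtain ⟨c⟩ := exists_opCover φ L hD.invL θ hG hS
  haveI := Fintype.ofFinite c.E
  haveI := Fintype.ofFinite c.M
  haveI := Fintype.ofFinite (c.E ⧸ c.M)
  let φY : S →* MulAut (c.E ⧸ c.M) := quotAut c.act c.M c.act_mem
  let mk : c.E →* c.E ⧸ c.M := QuotientGroup.mk' c.M
  set A : Subgroup (c.E ⧸ c.M) := (I.comap c.π).map mk with hA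
  set B : Subgroup (c.E ⧸ c.M) := (J.comap c.π).map mk with hB
  haveI : A.Normal := Subgroup.Normal.map inferInstance mk (QuotientGroup.mk'_surjective c.M)
  haveI := Fintype.ofFinite B
  have hmk : ∀ e e' : c.E, mk e = mk e' → c.π (e⁻¹ * e') ∈ L := fun e e' h =>
    c.map_mem _ (QuotientGroup.eq.1 h)
  have hmemB : ∀ e : c.E, mk e ∈ B → c.π e ∈ J := by
    rintro e ⟨e', he', h⟩
    have h1 : c.π e = c.π e' * c.π (e'⁻¹ * e) := by simp
    rw [h1]
    exact J.mul_mem he' (hD.hLJ (hmk e' e h))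
  have hmemA : ∀ e : c.E, mk e ∈ A → c.π e ∈ I := by
    rintro e ⟨e', he', h⟩
    have h1 : c.π e = c.π e' * c.π (e'⁻¹ * e) := by simp
    rw [h1]
    exact I.mul_mem he' (hD.hLI (hmk e' e h))
  have hker : ∀ e : c.E, c.π e ∈ L → ∃ k, c.π k = 1 ∧ mk e = mk k := by
    intro e he
    obtain ⟨m, hm, hme⟩ := c.exists_mem _ he
    refine ⟨e * m⁻¹, by simp [hme], ?_⟩
    show (e : c.E ⧸ c.M) = ((e * m⁻¹ : c.E) : c.E ⧸ c.M)
    rw [QuotientGroup.eq, inv_mul_cancel_left]
    exact c.M.inv_mem hm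
  have hcardY : Nat.card (c.E ⧸ c.M) ∣ Nat.card G ^ 3 :=
    (Subgroup.card_quotient_dvd_card c.M).trans c.card_dvd
  have hfixB : ∀ s e, c.π e ∈ J → mk (c.act s e) = mk e := by
    intro s e he
    obtain ⟨l, hl, f, hf, hlf⟩ := hD.fixJ _ he
    obtain ⟨m, hm, hml⟩ := c.exists_mem l hl
    obtain ⟨e', rfl⟩ : ∃ e', e = m * e' := ⟨m⁻¹ * e, by simp⟩
    rw [map_mul c.π, hml] at hlf
    have hef : ∀ t, φ t (c.π e') = c.π e' := fun t => by
      rw [mul_left_cancel hlf]; exact hf t
    rw [map_mul (c.act s), c.act_eq_self hD.cop hef s, map_mul mk, map_mul mk]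
    congr 1
    show ((c.act s m : c.E) : c.E ⧸ c.M) = (m : c.E ⧸ c.M)
    rw [(QuotientGroup.eq_one_iff _).2 hm, (QuotientGroup.eq_one_iff _).2 (c.act_mem s m hm)]
  have hC : CoreData φY A B := {
    cop := (hD.cop.pow_right 3).coprime_dvd_right hcardY
    odd := (hD.odd.pow).of_dvd_nat hcardY
    gen := fun y => by
      obtain ⟨e, rfl⟩ := QuotientGroup.mk'_surjective c.M y
      obtain ⟨i, hi, j, hj, hij⟩ := hD.gen (c.π e)
      obtain ⟨ei, rfl⟩ := c.cover.surj i
      refine ⟨mk ei, ⟨ei, hi, rfl⟩, mk (ei⁻¹ * e), ⟨ei⁻¹ * e, ?_, rfl⟩, by rw [← map_mul, mul_inv_cancel_left]⟩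
      show c.π (ei⁻¹ * e) ∈ J
      rw [map_mul, map_inv, hij, inv_mul_cancel_left]
      exact hj
    central := fun z hzA hzB y => by
      obtain ⟨e, rfl⟩ := QuotientGroup.mk'_surjective c.M z
      obtain ⟨k, hk, hek⟩ := hker e (hD.inter _ (hmemA e hzA) (hmemB e hzB))
      obtain ⟨e', rfl⟩ := QuotientGroup.mk'_surjective c.M y
      show mk e' * mk e = mk e * mk e'
      rw [hek, ← map_mul, ← map_mul, c.cover.kernel_central hk]
    comm := by
      rintro _ ⟨e, he, rfl⟩ _ ⟨e', he', rfl⟩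
      refine ⟨e * e' * e⁻¹ * e'⁻¹, ?_, by simp⟩
      show c.π _ ∈ J
      simp only [map_mul, map_inv]
      exact hD.hLJ (hD.comm _ he _ he')
    invA := by
      rintro s _ ⟨e, he, rfl⟩
      refine ⟨c.act s e, ?_, rfl⟩
      show c.π _ ∈ I
      rw [c.map_act]
      exact hD.invI s _ he
    fixB := by
      rintro s _ ⟨e, he, rfl⟩
      exact hfixB s e he
    free := by
      rintro _ ⟨e, he, rfl⟩ h
      have hl : c.π e ∈ L := hD.free _ he fun s => by
        have h1 : mk (c.act s e * e⁻¹) ∈ B := by rw [map_mul, map_inv]; exact h s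
        have h2 := hmemB _ h1
        rw [map_mul, map_inv, c.map_act] at h2
        exact hD.inter _ (I.mul_mem (hD.invI s _ he) (I.inv_mem he)) h2
      exact ⟨e, hD.hLJ hl, rfl⟩ }
  have hsolvY : Group.IsSolvable (c.E ⧸ c.M) := by
    haveI : Group.IsSolvable c.π.ker :=
      Group.isSolvable_of_comm fun a b => Subtype.ext (c.cover.kernel_central b.2 a)
    haveI := hD.solv
    haveI : Group.IsSolvable c.E := Group.isSolvable_of_ker_le_range c.π.ker.subtype c.π
      (Subgroup.range_subtype _).ge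
    exact Group.isSolvable_of_surjective (QuotientGroup.mk'_surjective c.M)
  have hcorr := hC.oddBij hsolvY
  -- genuineness
  have hgen_iff : ∀ (β : IrrCharacter (c.E ⧸ c.M)) (γ : IrrCharacter B),
      classInner (fun b : B => β.1 b) γ.1 ≠ 0 → ∀ (z : c.E), c.π z = 1 → ∀ a : ℂ, c.σ z = a • 1 →
      ∀ hz : mk z ∈ B, ((∀ y, a * β.1 (mk z * y) = β.1 y) ↔ ∀ b, a * γ.1 (⟨mk z, hz⟩ * b) = γ.1 b) := by
    intro β γ hne z hz a ha hzB
    have hzc : ∀ y, y * mk z = mk z * y := fun y => by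
      obtain ⟨e, rfl⟩ := QuotientGroup.mk'_surjective c.M y
      show mk e * mk z = mk z * mk e
      rw [← map_mul, ← map_mul, c.cover.kernel_central hz]
    obtain ⟨ω, hω⟩ := exists_central_factor β (mk z) hzc
    obtain ⟨ω', hω'⟩ := exists_central_factor γ ⟨mk z, hzB⟩ fun b => Subtype.ext (hzc b)
    have h1 : ω * conj ω' * classInner (fun b : B => β.1 b) γ.1 =
        classInner (fun b : B => β.1 b) γ.1 := by
      simp only [classInner]
      rw [mul_left_comm, Finset.mul_sum]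
      congr 1
      refine Fintype.sum_equiv (Equiv.mulLeft (⟨mk z, hzB⟩ : B)) _ _ fun b => ?_
      simp only [Equiv.coe_mulLeft, hω', map_mul, Subgroup.coe_mul, hω]
      ring
    have h2 : ω * conj ω' = 1 := (mul_eq_right₀ hne).1 h1
    obtain ⟨a', ha0, ha'⟩ := c.cover.exists_scalar hz
    have haa : a = a' := by
      have h := congrArg (LinearMap.trace ℂ (Fin c.d → ℂ)) (ha.symm.trans ha')
      simp only [map_smul, LinearMap.trace_one, Module.finrank_fin_fun, smul_eq_mul] at h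
      exact mul_right_cancel₀ c.cover.d_ne_zero h
    rw [← haa] at ha0
    have hconj := c.cover.conj_scalar ha0 ha
    constructor
    · intro h b
      have h3 : a * ω = 1 := by
        refine mul_right_cancel₀ (IsIrrCharacter.apply_one_ne_zero β.2) ?_
        rw [mul_assoc, ← hω, h, one_mul]
      have h4 : a * ω' = 1 := by
        have h5 : conj ω' = a := by
          calc conj ω' = a * ω * conj ω' := by rw [h3, one_mul]
            _ = a := by rw [mul_assoc, h2, mul_one]
        have h6 : ω' = a⁻¹ := by rw [← hconj, ← h5, Complex.conj_conj]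
        rw [h6, mul_inv_cancel₀ ha0]
      rw [hω', ← mul_assoc, h4, one_mul]
    · intro h y
      have h4 : a * ω' = 1 := by
        refine mul_right_cancel₀ (IsIrrCharacter.apply_one_ne_zero γ.2) ?_
        rw [mul_assoc, ← hω', h, one_mul]
      have h5 : conj ω' = a := by
        have h6 := congrArg conj h4
        rw [map_mul, map_one, hconj] at h6
        exact ((inv_mul_eq_one₀ ha0).1 h6).symm
      rw [hω, ← mul_assoc, mul_comm a ω, ← h5, h2, one_mul]
  -- the cover of `J`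
  set EJ := J.comap c.π with hEJ
  have hMJ : c.M ≤ EJ := fun m hm => hD.hLJ (c.map_mem m hm)
  let πJ : EJ →* J := (c.π.comp EJ.subtype).codRestrict J fun e => e.2
  let σJ : Representation ℂ EJ (Fin c.d → ℂ) := MonoidHom.comp c.σ EJ.subtype
  set MJ := c.M.subgroupOf EJ with hMJdef
  haveI := Fintype.ofFinite EJ
  haveI := Fintype.ofFinite MJ
  haveI := Fintype.ofFinite (EJ ⧸ MJ)
  let eM : MJ ≃* c.M := Subgroup.subgroupOfEquivOfLe hMJ
  have hcJ : IsCover πJ σJ MJ := {
    surj := fun j => by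
      obtain ⟨e, he⟩ := c.cover.surj j
      exact ⟨⟨e, by show c.π e ∈ J; rw [he]; exact j.2⟩, Subtype.ext he⟩
    inj := fun m hm h => Subtype.ext (c.cover.inj m hm (congrArg Subtype.val h))
    irr := by
      haveI := c.cover.irr
      refine Char.isIrreducible_of_classInner_eq_one _ ?_
      have h := classInner_irr_self (IsIrrCharacter.comp_surjective c.cover.isIrr_sigma
        eM.toMonoidHom eM.surjective)
      exact h
    faithful := fun z h1 h2 => Subtype.ext (c.cover.faithful z (congrArg Subtype.val h1) h2) }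
  let f0 : EJ →* B := (mk.comp EJ.subtype).codRestrict B fun e => ⟨e, e.2, rfl⟩
  have hf0 : ∀ e ∈ MJ, f0 e = 1 := fun e he => Subtype.ext ((QuotientGroup.eq_one_iff (e : c.E)).2 he)
  let eB : EJ ⧸ MJ →* B := QuotientGroup.lift MJ f0 fun e he => hf0 e he
  have heB : Function.Bijective eB := by
    constructor
    · refine (injective_iff_map_eq_one _).2 fun q hq => ?_
      obtain ⟨e, rfl⟩ := QuotientGroup.mk_surjective q
      have h : mk (e : c.E) = 1 := congrArg Subtype.val hq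
      exact (QuotientGroup.eq_one_iff e).2 ((QuotientGroup.eq_one_iff (e : c.E)).1 h)
    · rintro ⟨_, e, he, rfl⟩
      exact ⟨((⟨e, he⟩ : EJ) : EJ ⧸ MJ), rfl⟩
  let toJ : IrrCharacter B → IrrCharacter (EJ ⧸ MJ) := fun γ =>
    ⟨fun q => γ.1 (eB q), IsIrrCharacter.comp_surjective γ.2 eB heB.2⟩
  -- multiplicities
  have hrestr : ∀ {β : c.E ⧸ c.M → ℂ}, Genuine c.π c.σ c.M β →
      Genuine πJ σJ MJ (fun q => β (eB q)) ∧
        (fun j : J => c.cover.lift β j) = hcJ.lift (fun q => β (eB q)) := by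
    intro β hβ
    have hg : Genuine πJ σJ MJ (fun q => β (eB q)) := fun z hz a ha q => by
      show a * β (eB _) = β (eB q)
      rw [map_mul]
      exact hβ z (congrArg Subtype.val hz) a ha _
    refine ⟨hg, funext fun j => ?_⟩
    obtain ⟨e, rfl⟩ := hcJ.surj j
    rw [hcJ.lift_apply hg]
    show c.cover.lift β (c.π e) = _
    rw [c.cover.lift_apply hβ]
    rfl
  have hmult : ∀ (β : IrrCharacter (c.E ⧸ c.M)) (hβ : Genuine c.π c.σ c.M β.1) (γ : IrrCharacter B)
      (hγ : Genuine πJ σJ MJ (toJ γ).1),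
      mult J.subtype (c.cover.liftIrr β hβ) (hcJ.liftIrr (toJ γ) hγ) = mult B.subtype β γ := by
    intro β hβ γ hγ
    obtain ⟨hg, he⟩ := hrestr hβ
    rw [← Nat.cast_inj (R := ℂ), ← mult_eq, ← mult_eq]
    show classInner (fun j : J => c.cover.lift β.1 j) (hcJ.lift (toJ γ).1) = _
    rw [he, hcJ.classInner_lift hg hγ]
    exact classInner_comp_surjective eB heB.2 (fun b : B => β.1 b) γ.1
  have hkerB : ∀ z, c.π z = 1 → mk z ∈ B := fun z hz =>
    ⟨z, by show c.π z ∈ J; rw [hz]; exact J.one_mem, rfl⟩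
  have hgenu : ∀ (β : IrrCharacter (c.E ⧸ c.M)) (γ : IrrCharacter B), Odd (mult B.subtype β γ) →
      (Genuine c.π c.σ c.M β.1 ↔ Genuine πJ σJ MJ (toJ γ).1) := by
    intro β γ hm
    have hne : classInner (fun b : B => β.1 b) γ.1 ≠ 0 := by
      rw [show classInner (fun b : B => β.1 b) γ.1 = _ from mult_eq (ι := B.subtype) β γ]
      exact Nat.cast_ne_zero.2 hm.pos.ne'
    constructor
    · intro h z hz a ha q
      show a * γ.1 (eB _) = _
      rw [map_mul]
      exact (hgen_iff β γ hne z (congrArg Subtype.val hz) a ha (eB z).2).1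
        (h z (congrArg Subtype.val hz) a ha) (eB q)
    · intro h z hz a ha
      have hzJ : z ∈ EJ := by show c.π z ∈ J; rw [hz]; exact J.one_mem
      refine (hgen_iff β γ hne z hz a ha (hkerB z hz)).2 fun b => ?_
      obtain ⟨q, rfl⟩ := heB.2 b
      have := h ⟨z, hzJ⟩ (Subtype.ext hz) a ha q
      rw [show (toJ γ).1 _ = γ.1 (eB ((⟨z, hzJ⟩ : EJ) : EJ ⧸ MJ) * eB q) from congrArg γ.1 (map_mul eB _ q)] at this
      exact this
  -- fixed characters
  have hfix : ∀ (β : IrrCharacter (c.E ⧸ c.M)) (hβ : Genuine c.π c.σ c.M β.1),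
      IsFix φ (c.cover.liftIrr β hβ).1 ↔ IsFix φY β.1 := by
    intro β hβ
    constructor
    · intro h s q
      have hg : Genuine c.π c.σ c.M (twistChar (φY s) β).1 := fun z hz a ha y => by
        show a * β.1 (φY s (_ * y)) = β.1 (φY s y)
        rw [map_mul, show φY s (z : c.E ⧸ c.M) = ((c.act s z : c.E) : c.E ⧸ c.M) from rfl,
          c.act_ker hz]
        exact hβ z hz a ha _
      refine congrFun (congrArg Subtype.val (c.cover.lift_injective hg hβ (funext fun g => ?_))) q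
      obtain ⟨e, rfl⟩ := c.cover.surj g
      have h1 : c.cover.lift β.1 (φ s (c.π e)) = c.cover.lift β.1 (c.π e) := h s (c.π e)
      rw [← h1, ← c.map_act, c.cover.lift_apply hg, c.cover.lift_apply hβ, c.character_act]
      rfl
    · intro h s g
      obtain ⟨e, rfl⟩ := c.cover.surj g
      show c.cover.lift β.1 (φ s (c.π e)) = c.cover.lift β.1 (c.π e)
      rw [← c.map_act, c.cover.lift_apply hβ, c.cover.lift_apply hβ, c.character_act]
      exact congrArg _ (h s (e : c.E ⧸ c.M))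
  -- over `θ`
  have hoverG : ∀ (β : IrrCharacter (c.E ⧸ c.M)) (hβ : Genuine c.π c.σ c.M β.1),
      classInner (resFun L (c.cover.liftIrr β hβ).1) θ.1 ≠ 0 := fun β hβ => by
    rw [← c.classInner_M]
    show classInner (fun m : c.M => c.cover.lift β.1 (c.π m)) _ ≠ 0
    rw [c.cover.classInner_lift_M hβ]
    exact IsIrrCharacter.apply_one_ne_zero β.2
  have hoverJ : ∀ f : J → ℂ, classInner (fun m : MJ => f (πJ m)) (fun m : MJ => σJ.character (m : EJ)) =
      classInner (resIncl L hD.hLJ f) θ.1 := by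
    intro f
    have h := classInner_comp_surjective (eM.trans c.equivM).toMonoidHom
      (eM.trans c.equivM).surjective (resIncl L hD.hLJ f) θ.1
    rw [← h]
    congr 1
    funext m
    show c.σ.character ((m : EJ) : c.E) = _
    rw [c.character_M ((m : EJ) : c.E) m.2]
    rfl
  refine ⟨fun χ hχ => ?_, fun χ χ' ψ hχ hχ' hψ hm hm' => ?_, fun ψ hψ => ?_⟩
  · obtain ⟨β, hβ, rfl⟩ := c.cover.exists_lift χ (by rw [c.classInner_M]; exact hχ.2)
    obtain ⟨γ, ⟨-, hγm⟩, hγu⟩ := hcorr.existsUnique_right β ((hfix β hβ).1 hχ.1)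
    have hγg := (hgenu β γ hγm).1 hβ
    refine ⟨hcJ.liftIrr (toJ γ) hγg, ⟨?_, by rw [hmult]; exact hγm⟩, fun ψ hψ => ?_⟩
    · rw [← hoverJ]
      show classInner (fun m : MJ => hcJ.lift (toJ γ).1 (πJ m)) _ ≠ 0
      rw [hcJ.classInner_lift_M hγg]
      exact IsIrrCharacter.apply_one_ne_zero (toJ γ).2
    · obtain ⟨η, hη, rfl⟩ := hcJ.exists_lift ψ (by rw [hoverJ]; exact hψ.1)
      obtain ⟨γ', rfl⟩ : ∃ γ', toJ γ' = η := by
        let e := MulEquiv.ofBijective eB heB
        refine ⟨⟨fun b => η.1 (e.symm b), IsIrrCharacter.comp_surjective η.2 e.symm.toMonoidHom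
          e.symm.surjective⟩, Subtype.ext (funext fun q => congrArg η.1 (e.symm_apply_apply q))⟩
      have h2 := hψ.2
      rw [hmult] at h2
      have : γ' = γ := hγu γ' ⟨trivial, h2⟩
      subst this
      rfl
  · obtain ⟨β, hβ, rfl⟩ := c.cover.exists_lift χ (by rw [c.classInner_M]; exact hχ.2)
    obtain ⟨β', hβ', rfl⟩ := c.cover.exists_lift χ' (by rw [c.classInner_M]; exact hχ'.2)
    obtain ⟨η, hη, rfl⟩ := hcJ.exists_lift ψ (by rw [hoverJ]; exact hψ)
    obtain ⟨γ, rfl⟩ : ∃ γ, toJ γ = η := by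
      let e := MulEquiv.ofBijective eB heB
      refine ⟨⟨fun b => η.1 (e.symm b), IsIrrCharacter.comp_surjective η.2 e.symm.toMonoidHom
        e.symm.surjective⟩, Subtype.ext (funext fun q => congrArg η.1 (e.symm_apply_apply q))⟩
    rw [hmult] at hm hm'
    have := hcorr.left_unique β β' γ ((hfix β hβ).1 hχ.1) ((hfix β' hβ').1 hχ'.1) trivial hm hm'
    subst this
    rfl
  · obtain ⟨η, hη, rfl⟩ := hcJ.exists_lift ψ (by rw [hoverJ]; exact hψ)
    obtain ⟨γ, rfl⟩ : ∃ γ, toJ γ = η := by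
      let e := MulEquiv.ofBijective eB heB
      refine ⟨⟨fun b => η.1 (e.symm b), IsIrrCharacter.comp_surjective η.2 e.symm.toMonoidHom
        e.symm.surjective⟩, Subtype.ext (funext fun q => congrArg η.1 (e.symm_apply_apply q))⟩
    obtain ⟨β, hβfix, hm⟩ := hcorr.exists_left γ trivial
    have hβ := (hgenu β γ hm).2 hη
    exact ⟨c.cover.liftIrr β hβ, ⟨(hfix β hβ).2 hβfix, hoverG β hβ⟩, by rw [hmult]; exact hm⟩

end Cfsg.Agent.IsaacsCorr
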