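import Cfsg.Agent.Lib.IsaacsCorr.Reduce

/-!
# The reduction of `K`

The abelian group `K / L` splits as the kernel of the average times the fixed points.
-/

set_option autoImplicit false
set_option linter.style.haveILetI false
set_option linter.unusedSectionVars false

namespace Cfsg.Agent.IsaacsCorr

open Cfsg Cfsg.Agent.Char
open Cfsg.Agent.RelGlauberman (restrictAut quotAut)
open Cfsg.Agent.Glauberman (IsFix mult mult_eq)

universe u v

variable {S : Type v} [Group S] [Finite S]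

/-- The average of a coprime action on an abelian group. -/
theorem exists_abelian_average {V : Type*} [CommGroup V] [Finite V] (ψ : S →* MulAut V)
    (hcop : (Nat.card S).Coprime (Nat.card V)) :
    ∃ n : V →* V, (∀ s v, n (ψ s v) = n v) ∧ (∀ s v, ψ s (n v) = n v) ∧
      (∀ v, (∀ s, ψ s v = v) → n v = v) ∧
      ∀ f : V →* V, (∀ s v, ψ s (f v) = f (ψ s v)) → ∀ v, n (f v) = f (n v) := by
  classical
  haveI := Fintype.ofFinite S
  let e : V ≃* V :=
    MulEquiv.ofBijective (powMonoidHom (Nat.card S)) (powCoprime hcop.symm).bijective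
  let P : V →* V := ∏ s : S, (ψ s).toMonoidHom
  have hP : ∀ v, P v = ∏ s : S, ψ s v := fun v =>
    MonoidHom.finsetProd_apply (fun s : S => (ψ s).toMonoidHom) Finset.univ v
  let n : V →* V := e.symm.toMonoidHom.comp P
  have hn : ∀ v, n v ^ Nat.card S = P v := fun v => e.apply_symm_apply (P v)
  have hinj : ∀ a b : V, a ^ Nat.card S = b ^ Nat.card S → a = b := fun a b h => e.injective h
  refine ⟨n, fun s v => hinj _ _ ?_, fun s v => hinj _ _ ?_, fun v hv => hinj _ _ ?_,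
    fun f hf v => hinj _ _ ?_⟩
  · rw [hn, hn, hP, hP]
    exact Fintype.prod_equiv (Equiv.mulRight s) _ _ fun t => by simp [MulAut.mul_apply]
  · rw [← map_pow, hn, hP, map_prod]
    exact Fintype.prod_equiv (Equiv.mulLeft s) _ _ fun t => by simp [MulAut.mul_apply]
  · rw [hn, hP, Finset.prod_congr rfl fun s _ => hv s, Finset.prod_const, Finset.card_univ,
      Nat.card_eq_fintype_card]
  · rw [hn, hP, ← map_pow, hn, hP, map_prod]
    exact Finset.prod_congr rfl fun s _ => hf s v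

variable {G : Type u} [Group G] [Fintype G]

/-- The correspondence. -/
theorem oddBij_main (φ : S →* MulAut G) (K L H : Subgroup G) [K.Normal] [L.Normal] [Fintype H]
    (hcop : (Nat.card S).Coprime (Nat.card G)) (hodd : Odd (Nat.card G)) (hsolv : Group.IsSolvable G)
    (hLK : L ≤ K) (hK : ∀ s, ∀ x ∈ K, φ s x ∈ K) (hL : ∀ s, ∀ x ∈ L, φ s x ∈ L)
    (hab : ∀ a ∈ K, ∀ b ∈ K, a * b * a⁻¹ * b⁻¹ ∈ L)
    (hgen : ∀ g, ∃ k ∈ K, ∃ f, (∀ s, φ s f = f) ∧ g = k * f)
    (hmem : ∀ h, h ∈ H ↔ ∃ l ∈ L, ∃ f, (∀ s, φ s f = f) ∧ h = l * f)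
    (hH : ∀ s, ∀ x ∈ H, φ s x ∈ H) :
    OddBij H.subtype (fun χ => IsFix φ χ.1) (fun ψ => IsFix (restrictAut φ H hH) ψ.1) := by
  classical
  haveI := Fintype.ofFinite L
  let q := QuotientGroup.mk' L
  have hq : ∀ {x y : G}, q x = q y → x⁻¹ * y ∈ L := fun h => QuotientGroup.eq.1 h
  have hq1 : ∀ {x : G}, q x = 1 ↔ x ∈ L := fun {x} => QuotientGroup.eq_one_iff x
  set V := K.map q
  letI : CommGroup V :=
    { (inferInstance : Group V) with
      mul_comm := by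
        rintro ⟨_, a, ha, rfl⟩ ⟨_, b, hb, rfl⟩
        refine Subtype.ext ?_
        show q a * q b = q b * q a
        have h := hq1.2 (hab a ha b hb)
        rw [map_mul, map_mul, map_mul, map_inv, map_inv, mul_inv_eq_one, mul_inv_eq_iff_eq_mul] at h
        exact h }
  have hV : ∀ s, ∀ x ∈ V, quotAut φ L hL s x ∈ V := by
    rintro s _ ⟨k, hk, rfl⟩
    exact ⟨φ s k, hK s k hk, rfl⟩
  let ψ : S →* MulAut V := restrictAut (quotAut φ L hL) V hV
  obtain ⟨n, hn1, hn2, hn3, hn4⟩ := exists_abelian_average ψ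
    (hcop.coprime_dvd_right ((Subgroup.card_subgroup_dvd_card V).trans
      (Subgroup.card_quotient_dvd_card L)))
  let f : K →* V := (q.comp K.subtype).codRestrict V fun k => ⟨k, k.2, rfl⟩
  set K' : Subgroup G := (n.comp f).ker.map K.subtype
  have hK' : ∀ x, x ∈ K' ↔ ∃ hx : x ∈ K, n (f ⟨x, hx⟩) = 1 := fun x =>
    ⟨by rintro ⟨k, hk, rfl⟩; exact ⟨k.2, hk⟩, fun ⟨hx, h⟩ => ⟨⟨x, hx⟩, h, rfl⟩⟩
  have hfix_f : ∀ s (k : K), ψ s (f k) = f ⟨φ s k, hK s k k.2⟩ := fun s k => Subtype.ext rfl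
  have hfree : ∀ x ∈ K', (∀ s, φ s x * x⁻¹ ∈ L) → x ∈ L := by
    intro x hx hs
    obtain ⟨hxK, hx⟩ := (hK' x).1 hx
    have h : ∀ s, ψ s (f ⟨x, hxK⟩) = f ⟨x, hxK⟩ := fun s => by
      refine Subtype.ext ?_
      show q (φ s x) = q x
      have := hq1.2 (hs s)
      rwa [map_mul, map_inv, mul_inv_eq_one] at this
    rw [hn3 _ h] at hx
    exact hq1.1 (congrArg Subtype.val hx)
  haveI hK'n : K'.Normal := ⟨by
    intro x hx g
    obtain ⟨hxK, hx⟩ := (hK' x).1 hx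
    obtain ⟨k, hk, c, hc, rfl⟩ := hgen g
    refine (hK' _).2 ⟨‹K.Normal›.conj_mem x hxK _, ?_⟩
    have hcc : ∀ v : V, q c * (v : G ⧸ L) * (q c)⁻¹ ∈ V := by
      rintro ⟨_, a, ha, rfl⟩
      exact ⟨c * a * c⁻¹, ‹K.Normal›.conj_mem a ha c, by simp⟩
    let cj : V →* V := MonoidHom.mk' (fun v => ⟨_, hcc v⟩) fun a b => Subtype.ext (by simp [mul_assoc])
    have hcomm : ∀ s v, ψ s (cj v) = cj (ψ s v) := by
      rintro s ⟨_, a, ha, rfl⟩
      refine Subtype.ext ?_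
      show quotAut φ L hL s (q c * q a * (q c)⁻¹) = q c * quotAut φ L hL s (q a) * (q c)⁻¹
      rw [map_mul, map_mul, map_inv]
      show q (φ s c) * q (φ s a) * (q (φ s c))⁻¹ = q c * q (φ s a) * (q c)⁻¹
      rw [hc s]
    have e : f ⟨k * c * x * (k * c)⁻¹, ‹K.Normal›.conj_mem x hxK _⟩ = cj (f ⟨x, hxK⟩) := by
      have h1 : f ⟨k * c * x * (k * c)⁻¹, ‹K.Normal›.conj_mem x hxK _⟩ =
          f ⟨k, hk⟩ * cj (f ⟨x, hxK⟩) * (f ⟨k, hk⟩)⁻¹ := Subtype.ext (by
        show q (k * c * x * (k * c)⁻¹) = q k * (q c * q x * (q c)⁻¹) * (q k)⁻¹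
        simp [map_mul, map_inv, mul_assoc])
      rw [h1, mul_inv_cancel_comm]
    rw [e, hn4 cj hcomm, hx, map_one]⟩
  have hLK' : L ≤ K' := fun l hl => (hK' l).2 ⟨hLK hl, by
    rw [show f ⟨l, hLK hl⟩ = 1 from Subtype.ext (hq1.2 hl), map_one]⟩
  have hInv : InvData φ L K' H := {
    cop := hcop
    odd := hodd
    solv := hsolv
    hLI := hLK'
    hLJ := fun l hl => (hmem l).2 ⟨l, hl, 1, fun s => map_one _, (mul_one l).symm⟩
    invL := hL
    invI := fun s x hx => by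
      obtain ⟨hxK, hx⟩ := (hK' x).1 hx
      exact (hK' _).2 ⟨hK s x hxK, by rw [← hfix_f s ⟨x, hxK⟩, hn1, hx]⟩
    gen := fun g => by
      obtain ⟨k, hk, c, hc, rfl⟩ := hgen g
      obtain ⟨k1, hk1, hk1v⟩ := (n (f ⟨k, hk⟩)).2
      haveI := hsolv
      obtain ⟨l, hl, hfix⟩ := Coprime.exists_fixed_mul_mem_hom φ hL
        (hcop.coprime_dvd_right (Subgroup.card_subgroup_dvd_card L))
        (Or.inr (Group.isSolvable_of_isSolvable_injective (Subgroup.subtype_injective L)))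
        (k := k1) fun s => hq (by
          have h := congrArg Subtype.val (hn2 s (f ⟨k, hk⟩))
          rw [show (ψ s (n (f ⟨k, hk⟩)) : G ⧸ L) = quotAut φ L hL s (n (f ⟨k, hk⟩)) from rfl,
            ← hk1v] at h
          exact h.symm)
      have hc' : ∀ s, φ s (k1 * l * c) = k1 * l * c := fun s => by
        rw [map_mul (φ s), (Coprime.mem_fixedBy φ).1 hfix s, hc]
      have hk2 : k * (k1 * l)⁻¹ ∈ K :=
        K.mul_mem hk (K.inv_mem (K.mul_mem hk1 (hLK hl)))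
      refine ⟨k * (k1 * l)⁻¹, (hK' _).2 ⟨hk2, ?_⟩, k1 * l * c,
        (hmem _).2 ⟨1, L.one_mem, _, hc', (one_mul _).symm⟩, by group⟩
      have e : f ⟨k * (k1 * l)⁻¹, hk2⟩ = f ⟨k, hk⟩ * (n (f ⟨k, hk⟩))⁻¹ := Subtype.ext (by
        show q (k * (k1 * l)⁻¹) = q k * ((n (f ⟨k, hk⟩) : V) : G ⧸ L)⁻¹
        rw [← hk1v, map_mul, map_inv, map_mul, hq1.2 hl, mul_one])
      rw [e, map_mul, map_inv, hn3 (n (f ⟨k, hk⟩)) (fun s => hn2 s _), mul_inv_cancel]
    inter := fun x hx hxH => hfree x hx fun s => by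
      obtain ⟨l, hl, c, hc, rfl⟩ := (hmem x).1 hxH
      rw [map_mul, hc s, mul_inv_rev, mul_assoc, mul_inv_cancel_left]
      exact L.mul_mem (hL s l hl) (L.inv_mem hl)
    comm := fun x hx y hy => hab x ((hK' x).1 hx).1 y ((hK' y).1 hy).1
    fixJ := fun j hj => (hmem j).1 hj
    free := hfree }
  exact hInv.oddBij_all hH

end Cfsg.Agent.IsaacsCorr
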