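import Cfsg.Agent.Lib.IsaacsCorr.Clifford

/-!
# The odd correspondence over all fixed characters

Fixed characters of `G` are sorted by their fixed constituents on `L`, which form one `J`-orbit;
Clifford induction reduces to the inertia group.
-/

set_option autoImplicit false
set_option linter.style.haveILetI false
set_option linter.unusedSectionVars false

namespace Cfsg.Agent.IsaacsCorr

open Cfsg Cfsg.Agent.Char
open Cfsg.Agent.RelGlauberman (restrictAut)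
open Cfsg.Agent.Glauberman (IsFix mult mult_eq)
open scoped ComplexConjugate

universe u v

variable {G : Type u} [Group G] [Fintype G] {S : Type v} [Group S] [Finite S] {φ : S →* MulAut G}
  {L I J : Subgroup G} [L.Normal] [Fintype L] [I.Normal] [Fintype J]

/-- A constituent of a constituent of a restriction is a constituent of the restriction. -/
theorem over_of_mult (hLJ : L ≤ J) (χ : IrrCharacter G) (ψ : IrrCharacter J) (θ : IrrCharacter L)
    (hm : Odd (mult J.subtype χ ψ)) (hψ : classInner (resIncl L hLJ ψ.1) θ.1 ≠ 0) :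
    classInner (resFun L χ.1) θ.1 ≠ 0 := by
  intro h0
  have h := classInner_eq_zero_of_comp (Subgroup.inclusion hLJ)
    (IsCharacter.comp (irr_isCharacter χ) J.subtype) ψ θ h0 hψ
  exact Nat.cast_ne_zero.2 hm.pos.ne' ((mult_eq (ι := J.subtype) χ ψ).symm.trans h)

variable (hD : InvData φ L I J) (hJ : ∀ s, ∀ x ∈ J, φ s x ∈ J)
include hD

/-- The correspondence over one fixed character of `L`. -/
theorem InvData.oddBij_over (θ : IrrCharacter L) (hθ : IsFix (restrictAut φ L hD.invL) θ.1) :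
    OddBij J.subtype (fun χ => IsFix φ χ.1 ∧ classInner (resFun L χ.1) θ.1 ≠ 0)
      (fun ψ => IsFix (restrictAut φ J hJ) ψ.1 ∧ classInner (resIncl L hD.hLJ ψ.1) θ.1 ≠ 0) := by
  classical
  set T := inertia L θ.1 with hTdef
  have hT := hD.inertia_invariant θ hθ
  have hLT : L ≤ T := irr_le_inertia L θ
  haveI := Fintype.ofFinite T
  haveI := Fintype.ofFinite (L.subgroupOf T)
  haveI := Fintype.ofFinite (J.subgroupOf T)
  have hI := hD.restrict_inertia θ hθ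
  set θT := toSubgroupOf L hLT θ
  have hbij := hI.oddBij θT (fun g => (conjFun_toSubgroupOf_iff L hLT θ g).2 g.2)
    (fun s x => hθ s ⟨((x : T) : G), Subgroup.mem_subgroupOf.1 x.2⟩)
  -- the inertia group in `J`
  set LJ := L.subgroupOf J
  haveI := Fintype.ofFinite LJ
  set θJ := toSubgroupOf L hD.hLJ θ
  set TJ := inertia LJ θJ.1
  haveI := Fintype.ofFinite TJ
  have hTJ : ∀ x : J, x ∈ TJ ↔ (x : G) ∈ T := fun x => conjFun_toSubgroupOf_iff L hD.hLJ θ x
  let e : TJ ≃* J.subgroupOf T :=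
    { toFun := fun x => ⟨⟨((x : J) : G), (hTJ x.1).1 x.2⟩, (x : J).2⟩
      invFun := fun y => ⟨⟨((y : T) : G), y.2⟩, (hTJ ⟨((y : T) : G), y.2⟩).2 (y : T).2⟩
      left_inv := fun x => rfl
      right_inv := fun y => rfl
      map_mul' := fun a b => rfl }
  let g : L →* J.subgroupOf T := (Subgroup.inclusion hLT).codRestrict _ fun n => hD.hLJ n.2
  have hoverT : ∀ ξ : T → ℂ, classInner (resFun (L.subgroupOf T) ξ) θT.1 =
      classInner (resIncl L hLT ξ) θ.1 := fun ξ => classInner_toSubgroupOf L hLT ξ θ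
  have hoverJT : ∀ μ : J.subgroupOf T → ℂ,
      classInner (resIncl (L.subgroupOf T) hI.hLJ μ) θT.1 = classInner (fun n : L => μ (g n)) θ.1 :=
    fun μ => by
      rw [← classInner_comp_surjective (Subgroup.subgroupOfEquivOfLe hLT).toMonoidHom
        (Subgroup.subgroupOfEquivOfLe hLT).surjective (fun n : L => μ (g n)) θ.1]
      rfl
  have hoverTJ : ∀ μ : TJ → ℂ, classInner (resIncl LJ (irr_le_inertia LJ θJ) μ) θJ.1 =
      classInner (fun n : L => μ (e.symm (g n))) θ.1 := fun μ => by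
    rw [← classInner_comp_surjective (Subgroup.subgroupOfEquivOfLe hD.hLJ).toMonoidHom
      (Subgroup.subgroupOfEquivOfLe hD.hLJ).surjective (fun n : L => μ (e.symm (g n))) θ.1]
    rfl
  let toTJ : IrrCharacter (J.subgroupOf T) → IrrCharacter TJ := fun μ =>
    ⟨fun x => μ.1 (e x), IsIrrCharacter.comp_surjective μ.2 e.toMonoidHom e.surjective⟩
  have hover_to : ∀ μ, classInner (resIncl LJ (irr_le_inertia LJ θJ) (toTJ μ).1) θJ.1 =
      classInner (resIncl (L.subgroupOf T) hI.hLJ μ.1) θT.1 := fun μ => by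
    rw [hoverTJ, hoverJT]
    simp [toTJ]
  -- induced characters of `J` over `θ` are fixed
  have hJLinv : ∀ s, ∀ x ∈ LJ, restrictAut φ J hJ s x ∈ LJ := fun s x hx => hD.invL s _ hx
  have hθJ : IsFix (restrictAut (restrictAut φ J hJ) LJ hJLinv) θJ.1 := fun s x =>
    hθ s ⟨((x : J) : G), Subgroup.mem_subgroupOf.1 x.2⟩
  have hTJinv : ∀ s, ∀ x ∈ TJ, restrictAut φ J hJ s x ∈ TJ := fun s x hx =>
    (hTJ _).2 (hT s _ ((hTJ x).1 hx))
  have hfixTJ : ∀ μ : IrrCharacter TJ,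
      classInner (resIncl LJ (irr_le_inertia LJ θJ) μ.1) θJ.1 ≠ 0 →
      IsFix (restrictAut (restrictAut φ J hJ) TJ hTJinv) μ.1 := by
    intro μ hμ
    haveI := Fintype.ofFinite (LJ.subgroupOf TJ)
    have hle := irr_le_inertia LJ θJ
    refine isFix_of_over (restrictAut (restrictAut φ J hJ) TJ hTJinv) (LJ.subgroupOf TJ) (fun s x hx => hJLinv s _ hx)
      (toSubgroupOf LJ hle θJ) (fun g => (conjFun_toSubgroupOf_iff LJ hle θJ g).2 g.2)
      (fun s x => hθJ s ⟨((x : TJ) : J), Subgroup.mem_subgroupOf.1 x.2⟩)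
      ((hD.cop.coprime_dvd_right (Subgroup.card_subgroup_dvd_card J)).coprime_dvd_right
        (Subgroup.card_subgroup_dvd_card TJ)) ?_ μ (by rwa [classInner_toSubgroupOf LJ hle])
    rintro ⟨⟨j, hj⟩, hjT⟩
    obtain ⟨l, hl, f, hf, rfl⟩ := hD.fixJ j hj
    have hfJ : f ∈ J := by
      have h := J.mul_mem (J.inv_mem (hD.hLJ hl)) hj
      rwa [inv_mul_cancel_left] at h
    have hlT : (⟨l, hD.hLJ hl⟩ : J) ∈ TJ := hle hl
    have hfT : (⟨f, hfJ⟩ : J) ∈ TJ := by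
      have h := TJ.mul_mem (TJ.inv_mem hlT) hjT
      have e1 : (⟨l, hD.hLJ hl⟩ : J)⁻¹ * ⟨l * f, hj⟩ = ⟨f, hfJ⟩ :=
        Subtype.ext (inv_mul_cancel_left l f)
      rwa [e1] at h
    exact ⟨⟨_, hlT⟩, hl, ⟨_, hfT⟩, fun s => Subtype.ext (Subtype.ext (hf s)), rfl⟩
  -- translation
  have hG : ∀ χ : IrrCharacter G, classInner (resFun L χ.1) θ.1 ≠ 0 →
      ∃ ξ : {ξ : IrrCharacter T // classInner (resIncl L hLT ξ.1) θ.1 ≠ 0},
        cliffordInduce L θ ξ = χ := fun χ hχ => (cliffordInduce_bijective L θ).2 χ hχ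
  have hJsurj : ∀ ψ : IrrCharacter J, classInner (resIncl L hD.hLJ ψ.1) θ.1 ≠ 0 →
      ∃ (μ : IrrCharacter (J.subgroupOf T))
        (h : classInner (resIncl LJ (irr_le_inertia LJ θJ) (toTJ μ).1) θJ.1 ≠ 0),
        cliffordInduce LJ θJ ⟨toTJ μ, h⟩ = ψ := by
    intro ψ hψ
    obtain ⟨⟨μ', hμ'⟩, hμ⟩ := (cliffordInduce_bijective LJ θJ).2 ψ
      (by rwa [classInner_toSubgroupOf L hD.hLJ])
    let μ : IrrCharacter (J.subgroupOf T) :=
      ⟨fun y => μ'.1 (e.symm y), IsIrrCharacter.comp_surjective μ'.2 e.symm.toMonoidHom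
        e.symm.surjective⟩
    have hto : toTJ μ = μ' := Subtype.ext (funext fun x => congrArg μ'.1 (e.symm_apply_apply x))
    refine ⟨μ, by rw [hto]; exact hμ', ?_⟩
    rw [← hμ]
    congr 1
  have hψfix : ∀ (μ : IrrCharacter TJ) (h : classInner (resIncl LJ (irr_le_inertia LJ θJ) μ.1) θJ.1 ≠ 0),
      IsFix (restrictAut φ J hJ) (cliffordInduce LJ θJ ⟨μ, h⟩).1 := fun μ h =>
    (isFix_cliffordInduce_iff (restrictAut φ J hJ) LJ θJ hJLinv hθJ hTJinv ⟨μ, h⟩).2 (hfixTJ μ h)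
  have hψover : ∀ (μ : IrrCharacter TJ) (h : classInner (resIncl LJ (irr_le_inertia LJ θJ) μ.1) θJ.1 ≠ 0),
      classInner (resIncl L hD.hLJ (cliffordInduce LJ θJ ⟨μ, h⟩).1) θ.1 ≠ 0 := fun μ h => by
    rw [← classInner_toSubgroupOf L hD.hLJ, classInner_resFun_cliffordInduce]
    exact h
  have hχiff : ∀ ξ : {ξ : IrrCharacter T // classInner (resIncl L hLT ξ.1) θ.1 ≠ 0},
      IsFix φ (cliffordInduce L θ ξ).1 ↔ IsFix (restrictAut φ T hT) ξ.1.1 := fun ξ =>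
    isFix_cliffordInduce_iff φ L θ hD.invL hθ hT ξ
  have hmult : ∀ (ξ : {ξ : IrrCharacter T // classInner (resIncl L hLT ξ.1) θ.1 ≠ 0})
      (μ : IrrCharacter (J.subgroupOf T))
      (h : classInner (resIncl LJ (irr_le_inertia LJ θJ) (toTJ μ).1) θJ.1 ≠ 0),
      mult J.subtype (cliffordInduce L θ ξ) (cliffordInduce LJ θJ ⟨toTJ μ, h⟩) =
        mult (J.subgroupOf T).subtype ξ.1 μ := by
    intro ξ μ h
    set χ := cliffordInduce L θ ξ
    rw [← Nat.cast_inj (R := ℂ), ← mult_eq, ← mult_eq]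
    have hc : IsCharacter J (fun j : J => χ.1 j) := IsCharacter.restrict (irr_isCharacter χ) J
    rw [cliffordInduce_coe]
    show classInner (fun j : J => χ.1 j) (indFun TJ (toTJ μ).1) = _
    rw [classInner_indFun_right TJ _ (IsCharacter.isClassFunction hc)]
    refine (classInner_comp_surjective e.toMonoidHom e.surjective
      (fun y : J.subgroupOf T => χ.1 ((y : T) : G)) μ.1).trans ?_
    refine RelGlauberman.classInner_comp_eq (J.subgroupOf T).subtype g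
      (IsCharacter.restrict (irr_isCharacter χ) T) ξ.1 μ θ ?_ ?_ ?_
    · rw [← classInner_indFun_right T _ (IsCharacter.isClassFunction (irr_isCharacter χ))]
      exact classInner_irr_self χ.2
    · exact classInner_resFun_cliffordInduce L θ ξ
    · rw [← hoverJT, ← hover_to]
      exact h
  refine ⟨fun χ hχ => ?_, fun χ χ' ψ hχ hχ' hψ hm hm' => ?_, fun ψ hψ => ?_⟩
  · obtain ⟨ξ, rfl⟩ := hG χ hχ.2
    obtain ⟨μ, ⟨hμover, hμm⟩, hμu⟩ := hbij.existsUnique_right ξ.1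
      ⟨(hχiff ξ).1 hχ.1, by rw [hoverT]; exact ξ.2⟩
    have h := (hover_to μ).symm ▸ hμover
    refine ⟨cliffordInduce LJ θJ ⟨toTJ μ, h⟩, ⟨⟨hψfix _ h, hψover _ h⟩, by rw [hmult]; exact hμm⟩, ?_⟩
    rintro ψ ⟨⟨-, hψ⟩, hm⟩
    obtain ⟨μ', h', rfl⟩ := hJsurj ψ hψ
    rw [hmult] at hm
    have : μ' = μ := hμu μ' ⟨by rw [← hover_to]; exact h', hm⟩
    subst this
    rfl
  · obtain ⟨ξ, rfl⟩ := hG χ hχ.2
    obtain ⟨ξ', rfl⟩ := hG χ' hχ'.2
    obtain ⟨μ, h, rfl⟩ := hJsurj ψ hψ.2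
    rw [hmult] at hm hm'
    have := hbij.left_unique ξ.1 ξ'.1 μ ⟨(hχiff ξ).1 hχ.1, by rw [hoverT]; exact ξ.2⟩
      ⟨(hχiff ξ').1 hχ'.1, by rw [hoverT]; exact ξ'.2⟩ (by rw [← hover_to]; exact h) hm hm'
    rw [Subtype.ext this]
  · obtain ⟨μ, h, rfl⟩ := hJsurj ψ hψ.2
    obtain ⟨ξ, ⟨hξfix, hξover⟩, hm⟩ := hbij.exists_left μ (by rw [← hover_to]; exact h)
    have hξ : classInner (resIncl L hLT ξ.1) θ.1 ≠ 0 := by rw [← hoverT]; exact hξover
    refine ⟨cliffordInduce L θ ⟨ξ, hξ⟩, ⟨(hχiff ⟨ξ, hξ⟩).2 hξfix, ?_⟩, by rw [hmult]; exact hm⟩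
    rw [classInner_resFun_cliffordInduce]
    exact hξ

/-- The correspondence. -/
theorem InvData.oddBij_all :
    OddBij J.subtype (fun χ => IsFix φ χ.1) (fun ψ => IsFix (restrictAut φ J hJ) ψ.1) := by
  classical
  set LJ := L.subgroupOf J
  haveI := Fintype.ofFinite LJ
  have hJLinv : ∀ s, ∀ x ∈ LJ, restrictAut φ J hJ s x ∈ LJ := fun s x hx => hD.invL s _ hx
  haveI := hD.solv
  have hsolvJ : Group.IsSolvable J :=
    Group.isSolvable_of_isSolvable_injective (Subgroup.subtype_injective _)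
  have hcopJ : (Nat.card S).Coprime LJ.index :=
    (hD.cop.coprime_dvd_right (Subgroup.card_subgroup_dvd_card J)).coprime_dvd_right
      (Subgroup.index_dvd_card LJ)
  have hψθ : ∀ ψ : IrrCharacter J, IsFix (restrictAut φ J hJ) ψ.1 → ∃ θ : IrrCharacter L,
      IsFix (restrictAut φ L hD.invL) θ.1 ∧ classInner (resIncl L hD.hLJ ψ.1) θ.1 ≠ 0 := by
    intro ψ hψ
    obtain ⟨η, hη, hηψ⟩ := exists_fix_constituent_of_coprime_index (restrictAut φ J hJ) LJ hJLinv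
      hcopJ (Or.inr (by
        haveI := hsolvJ
        exact Group.isSolvable_of_surjective (QuotientGroup.mk'_surjective LJ))) hψ
    let e := Subgroup.subgroupOfEquivOfLe hD.hLJ
    let θ : IrrCharacter L :=
      ⟨fun n => η.1 (e.symm n), IsIrrCharacter.comp_surjective η.2 e.symm.toMonoidHom e.symm.surjective⟩
    have hto : toSubgroupOf L hD.hLJ θ = η :=
      Subtype.ext (funext fun x => congrArg η.1 (e.symm_apply_apply x))
    refine ⟨θ, fun s n => ?_, ?_⟩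
    · refine Eq.trans ?_ (hη s (e.symm n))
      exact congrArg η.1 (Subtype.ext (Subtype.ext rfl))
    · rw [← classInner_toSubgroupOf L hD.hLJ, hto]
      exact hηψ
  refine ⟨fun χ hχ => ?_, fun χ χ' ψ hχ hχ' hψ hm hm' => ?_, fun ψ hψ => ?_⟩
  · obtain ⟨θ, hθ, hθχ⟩ := exists_fix_constituent_of_coprime_index φ L hD.invL
      (hD.cop.coprime_dvd_right (Subgroup.index_dvd_card L))
      (Or.inr (Group.isSolvable_of_surjective (QuotientGroup.mk'_surjective L))) hχ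
    obtain ⟨ψ, ⟨⟨hψf, -⟩, hψm⟩, hu⟩ := (hD.oddBij_over hJ θ hθ).existsUnique_right χ ⟨hχ, hθχ⟩
    refine ⟨ψ, ⟨hψf, hψm⟩, fun ψ' h' => hu ψ' ⟨⟨h'.1, ?_⟩, h'.2⟩⟩
    obtain ⟨θ', hθ', hψ'θ'⟩ := hψθ ψ' h'.1
    obtain ⟨g, hg⟩ := exists_conjChar_of_constituents L χ θ θ' hθχ
      (over_of_mult hD.hLJ χ ψ' θ' h'.2 hψ'θ')
    subst hg
    obtain ⟨j, hj, hjg⟩ := hD.exists_conj_mem θ hθ hθ'
    rw [conjChar_coe, ← hjg] at hψ'θ'
    intro h0
    refine hψ'θ' (Eq.trans ?_ h0)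
    rw [← classInner_toSubgroupOf L hD.hLJ ψ'.1 θ,
      ← classInner_resFun_conjFun LJ (IsCharacter.isClassFunction (irr_isCharacter ψ'))
        (toSubgroupOf L hD.hLJ θ).1 ⟨j, hj⟩, ← conjChar_coe L θ j,
      ← classInner_toSubgroupOf L hD.hLJ ψ'.1 (conjChar L θ j)]
    congr 1
  · obtain ⟨θ, hθ, hψθ'⟩ := hψθ ψ hψ
    exact (hD.oddBij_over hJ θ hθ).left_unique χ χ' ψ
      ⟨hχ, over_of_mult hD.hLJ χ ψ θ hm hψθ'⟩ ⟨hχ', over_of_mult hD.hLJ χ' ψ θ hm' hψθ'⟩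
      ⟨hψ, hψθ'⟩ hm hm'
  · obtain ⟨θ, hθ, hψθ'⟩ := hψθ ψ hψ
    obtain ⟨χ, hχ, hm⟩ := (hD.oddBij_over hJ θ hθ).exists_left ψ ⟨hψ, hψθ'⟩
    exact ⟨χ, hχ.1, hm⟩

end Cfsg.Agent.IsaacsCorr
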